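import Mathlib

/-!
# No divisor of the order of `G₂(3ᶠ)` just below `q⁴ + q² + 1`
-/

set_option autoImplicit false

namespace CfsgLib.GTwoDegree

theorem no_divisor {q f n : ℕ} (hqf : q = 3 ^ f) (hq : 9 ≤ q)
    (hlow : (q : ℤ) ^ 4 + (q : ℤ) ^ 2 - q - 1 ≤ n)
    (hdvd : n ∣ q ^ 6 * (q ^ 2 - 1) * (q ^ 6 - 1)) : q ^ 4 + q ^ 2 + 1 ≤ n := by
  by_contra hcon
  obtain ⟨j, hj⟩ : ∃ j, n + j = q ^ 4 + q ^ 2 + 1 := ⟨q ^ 4 + q ^ 2 + 1 - n, by omega⟩
  have hjZ : (n : ℤ) + j = (q : ℤ) ^ 4 + (q : ℤ) ^ 2 + 1 := by exact_mod_cast hj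
  have hq2 : 81 ≤ q ^ 2 := by nlinarith
  have hjlo : 1 ≤ j := by omega
  have hjhi : j ≤ q + 2 := by omega
  obtain ⟨s, hs⟩ : ∃ s, q ^ 2 = s + 1 := ⟨q ^ 2 - 1, by omega⟩
  have hsZ : (s : ℤ) = (q : ℤ) ^ 2 - 1 := by
    have : ((q ^ 2 : ℕ) : ℤ) = ((s + 1 : ℕ) : ℤ) := by rw [hs]
    push_cast at this
    omega
  have h6 : q ^ 6 - 1 = s * (n + j) := by
    rw [hj]
    have : q ^ 6 = s * (q ^ 4 + q ^ 2 + 1) + 1 := by
      have hZ : ((q ^ 6 : ℕ) : ℤ) = ((s * (q ^ 4 + q ^ 2 + 1) + 1 : ℕ) : ℤ) := by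
        push_cast
        rw [hsZ]
        ring
      exact_mod_cast hZ
    omega
  have hmain : n ∣ q ^ 6 * (s * s) * j := by
    rw [show q ^ 2 - 1 = s by omega, h6,
      show q ^ 6 * s * (s * (n + j)) = q ^ 6 * (s * s) * n + q ^ 6 * (s * s) * j by ring] at hdvd
    exact (Nat.dvd_add_right (dvd_mul_left _ _)).1 hdvd
  have hcop : ∀ a : ℕ, ¬ 3 ∣ a → ∀ i, a.Coprime (q ^ i) := fun a ha i => by
    rw [hqf, ← pow_mul]
    exact ((Nat.prime_three.coprime_iff_not_dvd.2 ha).pow_left _).symm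
  have h3q : 3 ∣ q ^ 2 := by
    rw [hqf, ← pow_mul]
    refine dvd_pow_self 3 (fun h => ?_)
    have : f = 0 := by omega
    subst this
    norm_num at hqf
    omega
  -- two special values
  rcases (by omega : j = 1 ∨ j = 3 ∨ (2 ≤ j ∧ j ≠ 3)) with rfl | rfl | ⟨hj2, hj3⟩
  · have hn : n = q ^ 2 * (q ^ 2 + 1) := by
      rw [show q ^ 2 * (q ^ 2 + 1) = q ^ 4 + q ^ 2 by ring]; omega
    rw [hn, mul_one, show q ^ 6 * (s * s) = q ^ 2 * (q ^ 4 * (s * s)) by ring] at hmain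
    have h1 : q ^ 2 + 1 ∣ q ^ 4 * (s * s) := (Nat.mul_dvd_mul_iff_left (by omega)).1 hmain
    have h2 : q ^ 2 + 1 ∣ s * s :=
      (hcop (q ^ 2 + 1) (fun h => by omega) 4).dvd_of_dvd_mul_left h1
    have h4 : q ^ 2 + 1 ∣ 4 := by
      have e : s * s = (q ^ 2 + 1) * (q ^ 2 - 3) + 4 := by
        rw [hs]
        obtain ⟨r, rfl⟩ : ∃ r, s = r + 2 := ⟨s - 2, by omega⟩
        simp only [show r + 2 + 1 - 3 = r by omega]
        ring
      rw [e] at h2
      exact (Nat.dvd_add_right (dvd_mul_right _ _)).1 h2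
    have := Nat.le_of_dvd (by norm_num) h4
    omega
  · have hn : n = s * (q ^ 2 + 2) := by
      have e : ((n : ℕ) : ℤ) = ((s * (q ^ 2 + 2) : ℕ) : ℤ) := by
        push_cast
        rw [hsZ]
        push_cast at hjZ
        linear_combination hjZ
      exact_mod_cast e
    rw [hn, show q ^ 6 * (s * s) * 3 = s * (q ^ 6 * (s * 3)) by ring] at hmain
    have h1 : q ^ 2 + 2 ∣ q ^ 6 * (s * 3) := (Nat.mul_dvd_mul_iff_left (by omega)).1 hmain
    have h2 : q ^ 2 + 2 ∣ s * 3 := (hcop (q ^ 2 + 2) (fun h => by omega) 6).dvd_of_dvd_mul_left h1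
    have h3 : q ^ 2 + 2 ∣ s :=
      ((Nat.prime_three.coprime_iff_not_dvd.2 (fun h => by omega)).symm).dvd_of_dvd_mul_right h2
    have := Nat.le_of_dvd (by omega) h3
    omega
  · set g1 := Nat.gcd n (q ^ 6) with hg1
    set g2 := Nat.gcd n s with hg2
    have hn : n ∣ g1 * (g2 * g2) * j := by
      have h1 : n ∣ Nat.gcd n (q ^ 6 * (s * s) * j) := Nat.dvd_gcd dvd_rfl hmain
      refine h1.trans ((Nat.gcd_mul_right_dvd_mul_gcd _ _ _).trans ?_)
      refine mul_dvd_mul ((Nat.gcd_mul_right_dvd_mul_gcd _ _ _).trans ?_) (Nat.gcd_dvd_right _ _)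
      exact mul_dvd_mul dvd_rfl (Nat.gcd_mul_right_dvd_mul_gcd _ _ _)
    obtain ⟨i, -, hi⟩ := (Nat.dvd_prime_pow Nat.prime_three).1
      (show g1 ∣ 3 ^ (f * 6) by rw [pow_mul, ← hqf]; exact Nat.gcd_dvd_right _ _)
    have hg1n : (g1 : ℤ) ∣ (n : ℤ) := by exact_mod_cast Nat.gcd_dvd_left n (q ^ 6)
    have key : ∀ d : ℕ, (d : ℤ) ∣ (n : ℤ) → d ∣ q ^ 2 → d ∣ j - 1 := by
      intro d hd hd2
      have h2 : (d : ℤ) ∣ (q : ℤ) ^ 2 := by exact_mod_cast hd2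
      have h1 : (d : ℤ) ∣ ((j - 1 : ℕ) : ℤ) := by
        rw [show ((j - 1 : ℕ) : ℤ) = (q : ℤ) ^ 2 * ((q : ℤ) ^ 2 + 1) - n by
          push_cast [Nat.cast_sub (show 1 ≤ j by omega)]; linear_combination hjZ]
        exact dvd_sub (dvd_mul_of_dvd_left h2 _) hd
      exact_mod_cast h1
    have hq2i : g1 ∣ q ^ 2 := by
      rw [hi, hqf, ← pow_mul]
      refine pow_dvd_pow 3 ?_
      by_contra hc
      have h1 : q ^ 2 ∣ g1 := by rw [hi, hqf, ← pow_mul]; exact pow_dvd_pow 3 (by omega)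
      have h2 := key (q ^ 2) ((Int.natCast_dvd_natCast.2 h1).trans hg1n) dvd_rfl
      have := Nat.le_of_dvd (by omega) h2
      have : q + 2 < q ^ 2 := by nlinarith
      omega
    have hg1j : g1 ∣ j - 1 := key g1 hg1n hq2i
    have hg2j : (g2 : ℤ) ∣ (j : ℤ) - 3 := by
      have h1 : (g2 : ℤ) ∣ (n : ℤ) := by exact_mod_cast Nat.gcd_dvd_left n s
      have h2 : (g2 : ℤ) ∣ (s : ℤ) := by exact_mod_cast Nat.gcd_dvd_right n s
      rw [hsZ] at h2
      rw [show (j : ℤ) - 3 = ((q : ℤ) ^ 2 - 1) * ((q : ℤ) ^ 2 + 2) - n by linear_combination hjZ]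
      exact dvd_sub (dvd_mul_of_dvd_left h2 _) h1
    have hg2le : g2 ≤ Int.natAbs ((j : ℤ) - 3) := by
      refine Nat.le_of_dvd (Int.natAbs_pos.2 (by omega)) ?_
      exact Int.natCast_dvd.1 hg2j
    have hg1le : g1 ≤ j - 1 := Nat.le_of_dvd (by omega) hg1j
    have hg1pos : 0 < g1 := Nat.gcd_pos_of_pos_right _ (by positivity)
    have hg2pos : 0 < g2 := Nat.gcd_pos_of_pos_right _ (by omega)
    have hle := Nat.le_of_dvd (by positivity) hn
    have hleZ : (n : ℤ) ≤ (g1 : ℤ) * ((g2 : ℤ) * g2) * j := by exact_mod_cast hle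
    have hqZ : (9 : ℤ) ≤ q := by exact_mod_cast hq
    rcases (by omega : j ≤ q + 1 ∨ j = q + 2) with hjq | hjq
    · have a1 : (g1 : ℤ) ≤ q := by exact_mod_cast (by omega : g1 ≤ q)
      have a2 : (g2 : ℤ) ≤ q - 2 := by omega
      have a3 : (j : ℤ) ≤ q + 1 := by exact_mod_cast hjq
      have : (g1 : ℤ) * ((g2 : ℤ) * g2) * j ≤ (q : ℤ) * (((q : ℤ) - 2) * ((q : ℤ) - 2)) * ((q : ℤ) + 1) := by
        refine mul_le_mul (mul_le_mul a1 (mul_le_mul a2 a2 (by positivity) (by omega))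
          (by positivity) (by omega)) a3 (by positivity) ?_
        exact mul_nonneg (by omega) (mul_nonneg (by omega) (by omega))
      nlinarith
    · have hone : g1 = 1 := by
        have h3 : ¬ 3 ∣ g1 := fun h => by
          have h1 := h.trans hg1j
          have : 3 ∣ q := by rw [hqf]; exact dvd_pow_self 3 (by rintro rfl; norm_num at hqf; omega)
          omega
        rcases Nat.eq_zero_or_pos i with h | h
        · rw [hi, h, pow_zero]
        · exact absurd (by rw [hi]; exact dvd_pow_self 3 (by omega)) h3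
      have a2 : (g2 : ℤ) ≤ q - 1 := by omega
      have a3 : (j : ℤ) = q + 2 := by exact_mod_cast hjq
      rw [hone, Nat.cast_one, one_mul] at hleZ
      have : (g2 : ℤ) * g2 * j ≤ ((q : ℤ) - 1) * ((q : ℤ) - 1) * ((q : ℤ) + 2) := by
        rw [a3]
        exact mul_le_mul_of_nonneg_right (mul_le_mul a2 a2 (by positivity) (by omega)) (by omega)
      nlinarith

end CfsgLib.GTwoDegree
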