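import Cfsg.Agent.GTwoDegree.Coprime

/-!
# Characteristic three: the weights of `a + b`, `2 a + b`, `3 a + b`, `3 a + 2 b`

The weights non-trivial on `3 a + 2 b` take two multiplicities, by whether they are trivial on the two
short roots; the second is positive.
-/

set_option autoImplicit false
set_option linter.unusedSectionVars false

namespace CfsgLib.GTwoDegree

open Module CfsgLib.RepBounds Cfsg.Lie

theorem three_facts :
    ((9 : Fin 12) ≠ 7 ∧ rt 9 ≠ (rt 7).rev ∧ chevG2.commTerms 7 9 = [(10, 3, 1, 1)]) ∧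
    ((9 : Fin 12) ≠ 8 ∧ rt 9 ≠ (rt 8).rev ∧ chevG2.commTerms 8 9 = [(11, 3, 1, 1)]) ∧
    ((8 : Fin 12) ≠ 7 ∧ rt 8 ≠ (rt 7).rev ∧ chevG2.commTerms 7 8 =
      [((9 : Fin 12).1, -2, 1, 1), ((10 : Fin 12).1, -3, 2, 1), ((11 : Fin 12).1, 3, 1, 2)]) ∧
    ((6 : Fin 12) ≠ 7 ∧ rt 6 ≠ (rt 7).rev ∧ chevG2.commTerms 7 6 =
      [((8 : Fin 12).1, -1, 1, 1), ((9 : Fin 12).1, 1, 2, 1), ((10 : Fin 12).1, 1, 3, 1),
        ((11 : Fin 12).1, 1, 3, 2)]) := by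
  decide +kernel

variable {F : Type*} [Field F]

theorem comm_seven_nine (h3 : (3 : F) = 0) (t u : F) : Commute (x 7 t) (x 9 u) := by
  have h := conj_one 7 9 10 3 ⟨three_facts.1.1, three_facts.1.2.1⟩ three_facts.1.2.2 t u
  rw [Int.cast_ofNat, h3, zero_mul, zero_mul, AddChar.map_zero_eq_one, mul_one] at h
  exact mul_inv_eq_iff_eq_mul.1 h

theorem comm_eight_nine (h3 : (3 : F) = 0) (t u : F) : Commute (x 8 t) (x 9 u) := by
  have h := conj_one 8 9 11 3 ⟨three_facts.2.1.1, three_facts.2.1.2.1⟩ three_facts.2.1.2.2 t u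
  rw [Int.cast_ofNat, h3, zero_mul, zero_mul, AddChar.map_zero_eq_one, mul_one] at h
  exact mul_inv_eq_iff_eq_mul.1 h

theorem conj_seven_eight (h3 : (3 : F) = 0) (t u : F) :
    x 7 t * x 8 u * (x 7 t)⁻¹ = x 8 u * x 9 (t * u) := by
  rw [conj_x 7 8 ⟨three_facts.2.2.1.1, three_facts.2.2.1.2.1⟩
    [(9, -2, 1, 1), (10, -3, 2, 1), (11, 3, 1, 2)] three_facts.2.2.1.2.2]
  simp only [terms, List.map_cons, List.map_nil, List.prod_cons, List.prod_nil, Int.cast_neg,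
    Int.cast_ofNat, h3, neg_zero, zero_mul, AddChar.map_zero_eq_one, mul_one, pow_one]
  congr 2
  linear_combination (-(t * u)) * h3

theorem conj_seven_six (t u : F) :
    x 7 t * x 6 u * (x 7 t)⁻¹ = x 6 u *
      (x 8 (-(t * u)) * (x 9 (t ^ 2 * u) * (x 10 (t ^ 3 * u) * x 11 (t ^ 3 * u ^ 2)))) := by
  rw [conj_x 7 6 ⟨three_facts.2.2.2.1, three_facts.2.2.2.2.1⟩
    [(8, -1, 1, 1), (9, 1, 2, 1), (10, 1, 3, 1), (11, 1, 3, 2)] three_facts.2.2.2.2.2]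
  simp [terms]

variable [Fintype F] {V : Type*} [AddCommGroup V] [Module ℂ V] [FiniteDimensional ℂ V]
  (ρ : Representation ℂ (G2 F) V) (ψ : AddChar F ℂ)

/-- The weights of the four roots. -/
noncomputable def w4 (L B W Y : F) : End ℂ V := w3 ρ ψ L B W * p ρ ψ 8 Y

/-- The weights of three of them. -/
noncomputable def v3 (L W Y : F) : End ℂ V := p ρ ψ 11 L * p ρ ψ 9 W * p ρ ψ 8 Y

/-- The multiplicity of the weights trivial on the short roots. -/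
noncomputable def m0 : ℕ := rnk (w4 ρ ψ (1 : F) 0 0 0)

/-- The multiplicity of the others. -/
noncomputable def m1 : ℕ := rnk (w4 ρ ψ (1 : F) 0 0 1)

variable (h3 : (3 : F) = 0)
include h3

theorem p_nine_eight (W Y : F) : Commute (p ρ ψ 9 W) (p ρ ψ 8 Y) :=
  (commute_p_p ρ ψ 8 9 (comm_eight_nine h3) Y W).symm

theorem w3_eight_comm (L B W Y : F) : Commute (w3 ρ ψ L B W) (p ρ ψ 8 Y) :=
  ((pp_comm ρ ψ 11 8 (by decide +kernel) L Y).mul_left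
    (pp_comm ρ ψ 10 8 (by decide +kernel) B Y)).mul_left (p_nine_eight ρ ψ h3 W Y)

theorem w4_idem (L B W Y : F) : IsIdempotentElem (w4 ρ ψ L B W Y) :=
  (w3_idem ρ ψ L B W).mul_of_commute (w3_eight_comm ρ ψ h3 L B W Y) (p_idem ρ ψ 8 Y)

theorem v3_idem (L W Y : F) : IsIdempotentElem (v3 ρ ψ L W Y) :=
  ((p_idem ρ ψ 11 L).mul_of_commute (pp_comm ρ ψ 11 9 (by decide +kernel) L W)
    (p_idem ρ ψ 9 W)).mul_of_commute
    ((pp_comm ρ ψ 11 8 (by decide +kernel) L Y).mul_left (p_nine_eight ρ ψ h3 W Y))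
    (p_idem ρ ψ 8 Y)

theorem eight_absorb (L B W Y u : F) :
    ρ (x 8 u) * w4 ρ ψ L B W Y = ψ (Y * u) • w4 ρ ψ L B W Y := by
  rw [w4, (w3_eight_comm ρ ψ h3 L B W Y).eq, ← mul_assoc, map_mul_p, smul_mul_assoc]

theorem nine_absorb (L B W Y u : F) :
    ρ (x 9 u) * w4 ρ ψ L B W Y = ψ (W * u) • w4 ρ ψ L B W Y := by
  rw [w4, w3, (pr_nine_comm ρ ψ L B W).eq, ← mul_assoc, ← mul_assoc, map_mul_p, smul_mul_assoc,
    smul_mul_assoc]

theorem ten_absorb (L B W Y u : F) :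
    ρ (x 10 u) * w4 ρ ψ L B W Y = ψ (B * u) • w4 ρ ψ L B W Y := by
  rw [w4, w3, pr, (pp_comm ρ ψ 11 10 (by decide +kernel) L B).eq, ← mul_assoc, ← mul_assoc,
    ← mul_assoc, map_mul_p, smul_mul_assoc, smul_mul_assoc, smul_mul_assoc]

theorem eleven_absorb (L B W Y u : F) :
    ρ (x 11 u) * w4 ρ ψ L B W Y = ψ (L * u) • w4 ρ ψ L B W Y := by
  rw [w4, w3, pr, ← mul_assoc, ← mul_assoc, ← mul_assoc, map_mul_p, smul_mul_assoc, smul_mul_assoc,
    smul_mul_assoc]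

theorem seven_w4 (L B W Y t : F) :
    SemiconjBy (ρ (x 7 t)) (w4 ρ ψ L B W (Y + t * W)) (w4 ρ ψ L B W Y) := by
  rw [w4, w4, (w3_eight_comm ρ ψ h3 L B W _).eq, (w3_eight_comm ρ ψ h3 L B W Y).eq]
  refine semiconj_shear ρ ψ _ 8 (fun u => x 9 (t * u)) _ _ (fun u => conj_seven_eight h3 t u)
    (fun u => ?_)
    (((map_comm ρ ψ 7 11 (by decide +kernel) t L).mul_right
      (map_comm ρ ψ 7 10 (by decide +kernel) t B)).mul_right
      (commute_map_p ρ ψ 9 W _ fun u => comm_seven_nine h3 t u)) Y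
  show _ * (pr ρ ψ L B * p ρ ψ 9 W) = _ • (pr ρ ψ L B * p ρ ψ 9 W)
  rw [(pr_nine_comm ρ ψ L B W).eq, ← mul_assoc, map_mul_p, smul_mul_assoc]
  congr 2
  ring

theorem six_w4 (L B W Y t : F) :
    SemiconjBy (ρ (x 6 t)) (w4 ρ ψ L (B + L * t) W Y) (w4 ρ ψ L B W Y) :=
  (shear_six ρ ψ L B W t).mul_right (map_comm ρ ψ 6 8 (by decide +kernel) t Y)

theorem tor_w4 (l m : Fˣ) (L B W Y : F) :
    SemiconjBy (ρ (tor l m))
      (w4 ρ ψ (L * (wgt l m 11 : F)) (B * (wgt l m 10 : F)) (W * (wgt l m 9 : F))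
        (Y * (wgt l m 8 : F)))
      (w4 ρ ψ L B W Y) :=
  (tor_w3 ρ ψ l m L B W).mul_right (semiconj_tor ρ ψ l m 8 Y)

theorem rnk_tor (l m : Fˣ) (L B W Y : F) :
    rnk (w4 ρ ψ (L * (m : F)) (B * ((l : F) ^ 3 / (m : F))) (W * (l : F)) (Y * ((m : F) / (l : F)))) =
      rnk (w4 ρ ψ L B W Y) := by
  have h := rnk_semiconj ρ (tor_w4 ρ ψ h3 l m L B W Y) (w4_idem ρ ψ h3 _ _ _ _)
    (w4_idem ρ ψ h3 _ _ _ _)
  simpa [wgt, expA, expB, div_eq_mul_inv, mul_comm] using h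

theorem nA_v3 (L W Y : F) :
    SemiconjBy (ρ nA) (v3 ρ ψ L (-W) Y) (v3 ρ ψ L Y W) := by
  have a11 := semiconj_nA ρ ψ 11 L
  have a9 := semiconj_nA ρ ψ 9 W
  have a8 := semiconj_nA ρ ψ 8 Y
  rw [show sA 11 = 11 from rfl, show L * ((eA 11 : ℤ) : F) = L by simp [eA]] at a11
  rw [show sA 9 = 8 from rfl, show W * ((eA 9 : ℤ) : F) = -W by simp [eA]] at a9
  rw [show sA 8 = 9 from rfl, show Y * ((eA 8 : ℤ) : F) = Y by simp [eA]] at a8
  have h := (a11.mul_right a9).mul_right a8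
  rwa [mul_assoc (p ρ ψ 11 L) (p ρ ψ 8 W), ← (p_nine_eight ρ ψ h3 Y W).eq,
    ← mul_assoc (p ρ ψ 11 L)] at h

variable (hψ : ψ ≠ 0)
include hψ

theorem rnk_pr_split (L B : F) :
    rnk (pr ρ ψ L B) = ∑ W : F, ∑ Y : F, rnk (w4 ρ ψ L B W Y) := by
  rw [← sum_rnk ρ ψ hψ 9 (pr_idem ρ ψ L B) (pr_nine_comm ρ ψ L B)]
  exact Finset.sum_congr rfl fun W _ =>
    (sum_rnk ρ ψ hψ 8 (w3_idem ρ ψ L B W) (w3_eight_comm ρ ψ h3 L B W)).symm

theorem rnk_v3_split (L W Y : F) : rnk (v3 ρ ψ L W Y) = ∑ B : F, rnk (w4 ρ ψ L B W Y) := by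
  rw [← sum_rnk ρ ψ hψ 10 (v3_idem ρ ψ h3 L W Y) fun B =>
    ((pp_comm ρ ψ 11 10 (by decide +kernel) L B).mul_left
      (pp_comm ρ ψ 9 10 (by decide +kernel) W B)).mul_left (pp_comm ρ ψ 8 10 (by decide +kernel) Y B)]
  refine Finset.sum_congr rfl fun B _ => ?_
  congr 1
  rw [v3, w4, w3, pr, mul_assoc _ (p ρ ψ 8 Y), (pp_comm ρ ψ 8 10 (by decide +kernel) Y B).eq,
    ← mul_assoc, mul_assoc (p ρ ψ 11 L) (p ρ ψ 9 W),
    (pp_comm ρ ψ 9 10 (by decide +kernel) W B).eq, ← mul_assoc (p ρ ψ 11 L)]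

omit hψ in
theorem rnk_w4_B {L : F} (hL : L ≠ 0) (B W Y : F) :
    rnk (w4 ρ ψ L B W Y) = rnk (w4 ρ ψ L 0 W Y) := by
  have h := rnk_semiconj ρ (six_w4 ρ ψ h3 L 0 W Y (B / L)) (w4_idem ρ ψ h3 _ _ _ _)
    (w4_idem ρ ψ h3 _ _ _ _)
  rwa [zero_add, mul_div_cancel₀ _ hL] at h

theorem rnk_v3_top {L : F} (hL : L ≠ 0) (W Y : F) :
    rnk (v3 ρ ψ L W Y) = Fintype.card F * rnk (w4 ρ ψ L 0 W Y) := by
  rw [rnk_v3_split ρ ψ h3 hψ, Finset.sum_congr rfl fun B _ => rnk_w4_B ρ ψ h3 hL B W Y,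
    Finset.sum_const, Finset.card_univ, smul_eq_mul]

omit hψ in
theorem rnk_w4_m0 {L : F} (hL : L ≠ 0) (B : F) : rnk (w4 ρ ψ L B 0 0) = m0 ρ ψ := by
  rw [rnk_w4_B ρ ψ h3 hL, m0, ← rnk_tor ρ ψ h3 1 (Units.mk0 L hL) 1 0 0 0]
  simp

omit hψ in
theorem rnk_w4_short {L Y : F} (hL : L ≠ 0) (hY : Y ≠ 0) : rnk (w4 ρ ψ L 0 0 Y) = m1 ρ ψ := by
  rw [m1, ← rnk_tor ρ ψ h3 (Units.mk0 (L / Y) (div_ne_zero hL hY)) (Units.mk0 L hL) 1 0 0 1]
  simp only [Units.val_mk0, one_mul, zero_mul]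
  rw [div_div_cancel₀ hL]

theorem rnk_w4_m1 {L : F} (hL : L ≠ 0) (B : F) {W Y : F} (h : W ≠ 0 ∨ Y ≠ 0) :
    rnk (w4 ρ ψ L B W Y) = m1 ρ ψ := by
  rw [rnk_w4_B ρ ψ h3 hL]
  by_cases hW : W = 0
  · subst hW
    exact rnk_w4_short ρ ψ h3 hL (h.resolve_left fun h => h rfl)
  · have h1 : rnk (w4 ρ ψ L 0 W Y) = rnk (w4 ρ ψ L 0 W 0) := by
      have h := rnk_semiconj ρ (seven_w4 ρ ψ h3 L 0 W 0 (Y / W)) (w4_idem ρ ψ h3 _ _ _ _)
        (w4_idem ρ ψ h3 _ _ _ _)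
      rwa [zero_add, div_mul_cancel₀ _ hW] at h
    have h2 := rnk_semiconj ρ (nA_v3 ρ ψ h3 L 0 W) (v3_idem ρ ψ h3 _ _ _) (v3_idem ρ ψ h3 _ _ _)
    rw [neg_zero, rnk_v3_top ρ ψ h3 hψ hL, rnk_v3_top ρ ψ h3 hψ hL] at h2
    rw [h1, ← Nat.eq_of_mul_eq_mul_left Fintype.card_pos h2]
    exact rnk_w4_short ρ ψ h3 hL hW

theorem dd_three :
    (dd ρ ψ : ℤ) = m0 ρ ψ + ((Fintype.card F : ℤ) ^ 2 - 1) * m1 ρ ψ := by
  classical
  rw [dd, rnk_pr_split ρ ψ h3 hψ, ← Fintype.sum_prod_type',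
    ← Finset.add_sum_erase _ _ (Finset.mem_univ ((0 : F), (0 : F))),
    Finset.sum_congr rfl (g := fun _ => m1 ρ ψ) fun q hq => ?_, Finset.sum_const,
    Finset.card_erase_of_mem (Finset.mem_univ _), Finset.card_univ, Fintype.card_prod, smul_eq_mul]
  · have : 1 ≤ Fintype.card F * Fintype.card F := Nat.mul_pos Fintype.card_pos Fintype.card_pos
    push_cast [Nat.cast_sub this, m0]
    ring
  · refine rnk_w4_m1 ρ ψ h3 hψ one_ne_zero 0 ?_
    have hne := (Finset.mem_erase.1 hq).1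
    by_contra hc
    push Not at hc
    exact hne (Prod.ext hc.1 hc.2)

theorem m1_ne_zero (hq : 5 ≤ Fintype.card F) (hinj : ∀ g, ρ g = 1 → g = 1) : m1 ρ ψ ≠ 0 := by
  classical
  intro hm
  have h8 : ∀ L : F, L ≠ 0 → ∀ u, ρ (x 8 u) * pr ρ ψ L 0 = pr ρ ψ L 0 := by
    intro L hL u
    have hz : ∀ Y : F, Y ≠ 0 → ∀ W, w4 ρ ψ L 0 W Y = 0 := fun Y hY W =>
      eq_zero_of_rnk ((rnk_w4_m1 ρ ψ h3 hψ hL 0 (Or.inr hY)).trans hm)
    have e : pr ρ ψ L 0 = ∑ W : F, w4 ρ ψ L 0 W 0 := by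
      conv_lhs => rw [← mul_one (pr ρ ψ L 0), ← sum_p ρ ψ hψ 9, Finset.mul_sum]
      refine Finset.sum_congr rfl fun W _ => ?_
      show w3 ρ ψ L 0 W = _
      conv_lhs => rw [← mul_one (w3 ρ ψ L 0 W), ← sum_p ρ ψ hψ 8, Finset.mul_sum]
      exact Finset.sum_eq_single (0 : F) (fun Y _ hY => hz Y hY W) (by simp)
    rw [e, Finset.mul_sum]
    refine Finset.sum_congr rfl fun W _ => ?_
    rw [eight_absorb ρ ψ h3, zero_mul, AddChar.map_zero_eq_one, one_smul]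
  set e := pr ρ ψ (0 : F) 1 with he
  have h7 : ∀ t, ρ (x 7 t) * e = e := by
    intro t
    have hs : SemiconjBy (ρ nB) (pr ρ ψ 0 1) (pr ρ ψ 1 0) := by
      have b11 := semiconj_nB ρ ψ 11 0
      have b10 := semiconj_nB ρ ψ 10 1
      rw [zero_mul, show sB 11 = 10 from rfl] at b11
      rw [show sB 10 = 11 from rfl, show (1 : F) * ((eB 10 : ℤ) : F) = 1 by simp [eB]] at b10
      have h := b11.mul_right b10
      rwa [(pp_comm ρ ψ 10 11 (by decide +kernel) 0 1).eq] at h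
    have e1 : nB * x 7 t = x 8 t * nB := by
      have h := nB_conj 7 t
      rw [show sB 7 = 8 from rfl, show ((eB 7 : ℤ) : F) * t = t by simp [eB]] at h
      exact mul_inv_eq_iff_eq_mul.1 h
    have h : ρ nB * (ρ (x 7 t) * e) = ρ nB * e := by
      rw [← mul_assoc, ← map_mul, e1, map_mul, mul_assoc, hs.eq, ← mul_assoc, h8 1 one_ne_zero]
    have := congrArg (fun X => ρ nB⁻¹ * X) h
    simpa [← mul_assoc, ← map_mul] using this
  obtain ⟨W, Y, hWY⟩ : ∃ W Y, rnk (w4 ρ ψ 0 1 W Y) ≠ 0 := by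
    by_contra hc
    push Not at hc
    have h := rnk_pr ρ ψ (L := (0 : F)) (B := 1) (Or.inr one_ne_zero)
    rw [rnk_pr_split ρ ψ h3 hψ,
      Finset.sum_eq_zero fun W _ => Finset.sum_eq_zero fun Y _ => hc W Y] at h
    exact (dd_pos ρ ψ hψ hinj).ne h
  obtain ⟨v, hv0, hv⟩ := exists_fix (w4_idem ρ ψ h3 _ _ _ _) hWY
  have hev : e v = v := fix_of_mul (pr_idem ρ ψ 0 1) (fix_of_mul (w3_idem ρ ψ 0 1 W) hv)
  have key : ∀ t : F, -(Y * t) + W * t ^ 2 + t ^ 3 = 0 := by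
    intro t
    by_contra hK
    obtain ⟨u₀, hu₀⟩ := AddChar.ne_zero_iff.1 hψ
    set u := u₀ / (-(Y * t) + W * t ^ 2 + t ^ 3) with hu
    have hv7 : ∀ t, ρ (x 7 t) v = v := fun t => by
      conv_lhs => rw [← hev, ← Module.End.mul_apply, h7, hev]
    have hev6 : ∀ u, e (ρ (x 6 u) v) = ρ (x 6 u) v := fun u => by
      rw [← Module.End.mul_apply, ← (six_comm_pr ρ ψ u 1).eq, Module.End.mul_apply, hev]
    have h := congrArg (fun g => ρ g v) (conj_seven_six t u)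
    simp only [map_mul, Module.End.mul_apply] at h
    rw [← AddChar.map_neg_eq_inv, hv7] at h
    have h' : ρ (x 7 t) (ρ (x 6 u) v) = ρ (x 6 u) v := by
      rw [← hev6 u, ← Module.End.mul_apply, h7]
    rw [h'] at h
    have h'' := congrArg (ρ (x 6 u)⁻¹) h
    simp only [← Module.End.mul_apply, ← map_mul, inv_mul_cancel, inv_mul_cancel_left, map_one,
      Module.End.one_apply] at h''
    simp only [map_mul ρ, Module.End.mul_apply] at h''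
    have a8 : ∀ s, ρ (x 8 s) v = ψ (Y * s) • v := fun s => by
      rw [← hv, ← Module.End.mul_apply, eight_absorb ρ ψ h3, LinearMap.smul_apply]
    have a9 : ∀ s, ρ (x 9 s) v = ψ (W * s) • v := fun s => by
      rw [← hv, ← Module.End.mul_apply, nine_absorb ρ ψ h3, LinearMap.smul_apply]
    have a10 : ∀ s, ρ (x 10 s) v = ψ (1 * s) • v := fun s => by
      rw [← hv, ← Module.End.mul_apply, ten_absorb ρ ψ h3, LinearMap.smul_apply]
    have a11 : ∀ s, ρ (x 11 s) v = ψ (0 * s) • v := fun s => by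
      rw [← hv, ← Module.End.mul_apply, eleven_absorb ρ ψ h3, LinearMap.smul_apply]
    simp only [a8, a9, a10, a11, map_smul, smul_smul, ← AddChar.map_add_eq_mul] at h''
    have h4 := smul_left_injective ℂ hv0 (h''.symm.trans (one_smul ℂ v).symm)
    refine hu₀ ?_
    rw [← h4]
    congr 1
    have e2 : (-(Y * t) + W * t ^ 2 + t ^ 3) * u = u₀ := by rw [hu, mul_div_cancel₀ _ hK]
    rw [← e2]
    ring
  have k1 := key 1
  have k2 := key (-1)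
  have h2 : (2 : F) ≠ 0 := fun h => one_ne_zero (α := F) (by linear_combination h3 - h)
  have hW : W = 0 := by
    have : (2 : F) * W = 0 := by linear_combination k1 + k2
    exact (mul_eq_zero.1 this).resolve_left h2
  have hY : Y = 1 := by linear_combination -k1 + hW
  obtain ⟨t, -, ht⟩ := Finset.exists_mem_notMem_of_card_lt_card
    (s := ({0, 1, -1} : Finset F)) (t := Finset.univ)
    (lt_of_le_of_lt Finset.card_le_three (by rw [Finset.card_univ]; omega))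
  simp only [Finset.mem_insert, Finset.mem_singleton, not_or] at ht
  have k := key t
  rw [hW, hY] at k
  have : t * (t - 1) * (t + 1) = 0 := by linear_combination k
  rcases mul_eq_zero.1 this with h | h
  · rcases mul_eq_zero.1 h with h | h
    · exact ht.1 h
    · exact ht.2.1 (sub_eq_zero.1 h)
  · exact ht.2.2 (eq_neg_of_add_eq_zero_left h)

/-- Either the degree is large or the multiplicities are as small as possible. -/
theorem three_cases (hq : 5 ≤ Fintype.card F) (hinj : ∀ g, ρ g = 1 → g = 1) :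
    Fintype.card F ^ 4 + Fintype.card F ^ 2 + 1 ≤ finrank ℂ V ∨
      (m1 ρ ψ = 1 ∧ (dd ρ ψ : ℤ) = (Fintype.card F : ℤ) ^ 2 - 1 + m0 ρ ψ ∧ m0 ρ ψ ≤ 3) := by
  have hd := dd_three ρ ψ h3 hψ
  have hn := finrank_eq ρ ψ hψ
  have hm := m1_ne_zero ρ ψ h3 hψ hq hinj
  have hq5 : (5 : ℤ) ≤ (Fintype.card F : ℤ) := by exact_mod_cast hq
  have hq2 : (25 : ℤ) ≤ (Fintype.card F : ℤ) ^ 2 := by nlinarith
  by_cases hsmall : m1 ρ ψ = 1 ∧ m0 ρ ψ ≤ 3
  · refine Or.inr ⟨hsmall.1, ?_, hsmall.2⟩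
    rw [hd, hsmall.1]
    ring
  · left
    have hd' : (Fintype.card F : ℤ) ^ 2 + 3 ≤ dd ρ ψ := by
      rw [hd]
      have hm1 : (1 : ℤ) ≤ m1 ρ ψ := by exact_mod_cast Nat.one_le_iff_ne_zero.2 hm
      have hm0 : (0 : ℤ) ≤ m0 ρ ψ := by positivity
      rcases not_and_or.1 hsmall with h | h
      · have : (2 : ℤ) ≤ m1 ρ ψ := by exact_mod_cast (by omega : 2 ≤ m1 ρ ψ)
        nlinarith
      · have : (4 : ℤ) ≤ m0 ρ ψ := by exact_mod_cast (by omega : 4 ≤ m0 ρ ψ)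
        nlinarith
    have he : (0 : ℤ) ≤ ee ρ ψ := by positivity
    have h1 : ((Fintype.card F : ℤ) ^ 2 - 1) * ((Fintype.card F : ℤ) ^ 2 + 3) ≤
        ((Fintype.card F : ℤ) ^ 2 - 1) * dd ρ ψ := mul_le_mul_of_nonneg_left hd' (by omega)
    have : ((Fintype.card F ^ 4 + Fintype.card F ^ 2 + 1 : ℕ) : ℤ) ≤ (finrank ℂ V : ℤ) := by
      push_cast
      nlinarith
    exact_mod_cast this

end CfsgLib.GTwoDegree
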