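import Cfsg.Agent.GTwoDegree.Pairs

/-!
# Characteristic other than three

The non-trivial weights of `3 a + b`, `3 a + 2 b` have multiplicity `q m`. If `m = 1` the vectors
fixed by both root subgroups carry every non-trivial weight of `b`.
-/

set_option autoImplicit false
set_option linter.unusedSectionVars false

namespace CfsgLib.GTwoDegree

open Module CfsgLib.RepBounds Cfsg.Lie

variable {F : Type*} [Field F] [Fintype F] {V : Type*} [AddCommGroup V] [Module ℂ V]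
  [FiniteDimensional ℂ V] (ρ : Representation ℂ (G2 F) V) (ψ : AddChar F ℂ)

/-- A root subgroup acting on a line, normalized with a non-trivial factor, is trivial on it. -/
theorem fix_of_scale {e : End ℂ V} (he : IsIdempotentElem e) (h1 : rnk e ≤ 1) (i : Fin 12)
    (hc : ∀ t, Commute (ρ (x i t)) e) (h : G2 F) (k : F) (hk : k ≠ 1)
    (hconj : ∀ t, h * x i t * h⁻¹ = x i (k * t)) (hh : Commute (ρ h) e) (t : F) :
    ρ (x i t) * e = e := by
  obtain ⟨s, rfl⟩ : ∃ s, t = (k - 1) * s :=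
    ⟨t / (k - 1), (mul_div_cancel₀ _ (sub_ne_zero.2 hk)).symm⟩
  obtain ⟨c, hcs⟩ := exists_smul_of_rnk_le_one he h1 (ρ (x i s))
  rw [← (hc s).eq, mul_assoc, he.eq] at hcs
  have e1 : ρ (x i (k * s)) * e = c • e := by
    rw [← hconj, map_mul, map_mul, mul_assoc]
    have hh' : Commute (ρ h⁻¹) e := by
      rw [Commute, SemiconjBy]
      calc ρ h⁻¹ * e = ρ h⁻¹ * (e * ρ h) * ρ h⁻¹ := by
            rw [mul_assoc (ρ h⁻¹), mul_assoc e, ← map_mul, mul_inv_cancel, map_one, mul_one]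
        _ = e * ρ h⁻¹ := by
            rw [← hh.eq, ← mul_assoc, ← map_mul, inv_mul_cancel, map_one, one_mul]
    rw [hh'.eq, mul_assoc (ρ h), ← mul_assoc (ρ (x i s)) e, hcs, smul_mul_assoc, mul_smul_comm,
      ← mul_assoc, hh.eq, mul_assoc, ← map_mul, mul_inv_cancel, map_one, mul_one]
  rw [show k * s = (k - 1) * s + s by ring, AddChar.map_add_eq_mul, map_mul, mul_assoc, hcs,
    mul_smul_comm] at e1
  rcases eq_or_ne c 0 with rfl | hc0
  · rw [zero_smul] at hcs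
    have h0 : e = 0 := by
      have := congrArg (fun X => ρ (x i (-s)) * X) hcs
      simpa [← mul_assoc, ← map_mul, ← AddChar.map_add_eq_mul] using this
    rw [h0, mul_zero]
  · exact smul_right_injective (End ℂ V) hc0 e1

theorem six_comm_pr (t B : F) : Commute (ρ (x 6 t)) (pr ρ ψ 0 B) := by
  rw [pr, (pp_comm ρ ψ 11 10 (by decide +kernel) 0 B).eq]
  have h := semiconj_shear ρ ψ (x 6 t) 10 (fun u => x 11 (((1 : ℤ) : F) * t * u)) 0 (p ρ ψ 11 0)
    (fun u => conj_xx 6 10 11 1 (by decide +kernel) t u)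
    (fun u => by rw [map_mul_p, zero_mul, zero_mul])
    (map_comm ρ ψ 6 11 (by decide +kernel) t 0) B
  rwa [add_zero] at h

/-- The weights of `b` on the fixed space of the pair. -/
noncomputable def e6 (a : F) : End ℂ V := pr ρ ψ 0 0 * p ρ ψ 6 a

theorem pr_six_comm (a : F) : Commute (pr ρ ψ (0 : F) 0) (p ρ ψ 6 a) :=
  commute_p ρ ψ 6 a _ fun t => (six_comm_pr ρ ψ t 0).symm

theorem e6_idem (a : F) : IsIdempotentElem (e6 ρ ψ a) :=
  (pr_idem ρ ψ 0 0).mul_of_commute (pr_six_comm ρ ψ a) (p_idem ρ ψ 6 a)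

theorem semiconj_tor_pr (l m : Fˣ) (L B : F) :
    SemiconjBy (ρ (tor l m)) (pr ρ ψ (L * (wgt l m 11 : F)) (B * (wgt l m 10 : F)))
      (pr ρ ψ L B) :=
  (semiconj_tor ρ ψ l m 11 L).mul_right (semiconj_tor ρ ψ l m 10 B)

theorem tor_comm_pr (l m : Fˣ) : Commute (ρ (tor l m)) (pr ρ ψ (0 : F) 0) := by
  have h := semiconj_tor_pr ρ ψ l m 0 0
  rwa [zero_mul, zero_mul] at h

theorem rnk_e6 {a : F} (ha : a ≠ 0) : rnk (e6 ρ ψ a) = rnk (e6 ρ ψ 1) := by
  refine rnk_semiconj ρ (g := tor (Units.mk0 a ha)⁻¹ (Units.mk0 a ha)⁻¹) ?_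
    (e6_idem ρ ψ _) (e6_idem ρ ψ _)
  have h := semiconj_tor ρ ψ (Units.mk0 a ha)⁻¹ (Units.mk0 a ha)⁻¹ 6 1
  have e : (1 : F) * (wgt (Units.mk0 a ha)⁻¹ (Units.mk0 a ha)⁻¹ 6 : F) = a := by
    simp [wgt, expA, expB]
    field_simp
  rw [e] at h
  exact SemiconjBy.mul_right (tor_comm_pr ρ ψ _ _) h

/-- The weights of `2 a + b` within those of the pair. -/
noncomputable def w3 (L B A : F) : End ℂ V := pr ρ ψ L B * p ρ ψ 9 A

theorem pr_nine_comm (L B A : F) : Commute (pr ρ ψ L B) (p ρ ψ 9 A) :=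
  (pp_comm ρ ψ 11 9 (by decide +kernel) L A).mul_left (pp_comm ρ ψ 10 9 (by decide +kernel) B A)

theorem w3_idem (L B A : F) : IsIdempotentElem (w3 ρ ψ L B A) :=
  (pr_idem ρ ψ L B).mul_of_commute (pr_nine_comm ρ ψ L B A) (p_idem ρ ψ 9 A)

theorem shear_eight (L B A t : F) :
    SemiconjBy (ρ (x 8 t)) (w3 ρ ψ L B (A + 3 * t * L)) (w3 ρ ψ L B A) := by
  rw [w3, w3, (pr_nine_comm ρ ψ L B _).eq, (pr_nine_comm ρ ψ L B A).eq]
  refine semiconj_shear ρ ψ _ 9 (fun u => x 11 (((3 : ℤ) : F) * t * u)) _ _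
    (fun u => conj_xx 8 9 11 3 (by decide +kernel) t u) (fun u => ?_)
    ((map_comm ρ ψ 8 11 (by decide +kernel) t L).mul_right
      (map_comm ρ ψ 8 10 (by decide +kernel) t B)) A
  show _ * (p ρ ψ 11 L * p ρ ψ 10 B) = _ • (p ρ ψ 11 L * p ρ ψ 10 B)
  rw [← mul_assoc, map_mul_p, smul_mul_assoc]
  congr 2
  push_cast
  ring

theorem shear_seven (B A t : F) :
    SemiconjBy (ρ (x 7 t)) (w3 ρ ψ 0 B (A + 3 * t * B)) (w3 ρ ψ 0 B A) := by
  rw [w3, w3, (pr_nine_comm ρ ψ 0 B _).eq, (pr_nine_comm ρ ψ 0 B A).eq]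
  refine semiconj_shear ρ ψ _ 9 (fun u => x 10 (((3 : ℤ) : F) * t * u)) _ _
    (fun u => conj_xx 7 9 10 3 (by decide +kernel) t u) (fun u => ?_)
    ((map_comm ρ ψ 7 11 (by decide +kernel) t 0).mul_right
      (map_comm ρ ψ 7 10 (by decide +kernel) t B)) A
  show _ * (p ρ ψ 11 0 * p ρ ψ 10 B) = _ • (p ρ ψ 11 0 * p ρ ψ 10 B)
  rw [(pp_comm ρ ψ 11 10 (by decide +kernel) 0 B).eq, ← mul_assoc, map_mul_p, smul_mul_assoc]
  congr 2
  push_cast
  ring

theorem shear_six (L B A t : F) :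
    SemiconjBy (ρ (x 6 t)) (w3 ρ ψ L (B + L * t) A) (w3 ρ ψ L B A) := by
  refine SemiconjBy.mul_right ?_ (map_comm ρ ψ 6 9 (by decide +kernel) t A)
  have c := fun B => pp_comm ρ ψ 11 10 (by decide +kernel) L B
  rw [pr, pr, (c _).eq, (c _).eq]
  refine semiconj_shear ρ ψ _ 10 (fun u => x 11 (((1 : ℤ) : F) * t * u)) _ _
    (fun u => conj_xx 6 10 11 1 (by decide +kernel) t u) (fun u => ?_)
    (map_comm ρ ψ 6 11 (by decide +kernel) t L) B
  rw [map_mul_p, Int.cast_one, one_mul, mul_assoc]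

theorem tor_w3 (l m : Fˣ) (L B A : F) :
    SemiconjBy (ρ (tor l m))
      (w3 ρ ψ (L * (wgt l m 11 : F)) (B * (wgt l m 10 : F)) (A * (wgt l m 9 : F)))
      (w3 ρ ψ L B A) :=
  (semiconj_tor_pr ρ ψ l m L B).mul_right (semiconj_tor ρ ψ l m 9 A)

/-- The common multiplicity. -/
noncomputable def mm : ℕ := rnk (w3 ρ ψ (1 : F) 0 0)

variable (hψ : ψ ≠ 0) (h3 : (3 : F) ≠ 0)
include h3

theorem rnk_w3_top {L : F} (hL : L ≠ 0) (B A : F) : rnk (w3 ρ ψ L B A) = mm ρ ψ := by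
  calc rnk (w3 ρ ψ L B A) = rnk (w3 ρ ψ L B 0) := by
        have h := rnk_semiconj ρ (shear_eight ρ ψ L B 0 (A / (3 * L))) (w3_idem ρ ψ _ _ _)
          (w3_idem ρ ψ _ _ _)
        rwa [zero_add, show 3 * (A / (3 * L)) * L = A by field_simp] at h
    _ = rnk (w3 ρ ψ L 0 0) := by
        have h := rnk_semiconj ρ (shear_six ρ ψ L 0 0 (B / L)) (w3_idem ρ ψ _ _ _)
          (w3_idem ρ ψ _ _ _)
        rwa [zero_add, mul_div_cancel₀ _ hL] at h
    _ = mm ρ ψ := by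
        have h := rnk_semiconj ρ (tor_w3 ρ ψ 1 (Units.mk0 L hL) 1 0 0) (w3_idem ρ ψ _ _ _)
          (w3_idem ρ ψ _ _ _)
        simpa [wgt, expA, expB, mm] using h

include hψ

theorem dd_eq : dd ρ ψ = Fintype.card F * mm ρ ψ := by
  rw [dd, ← sum_rnk ρ ψ hψ 9 (pr_idem ρ ψ 1 0) (pr_nine_comm ρ ψ 1 0)]
  show ∑ A : F, rnk (w3 ρ ψ 1 0 A) = _
  rw [Finset.sum_congr rfl fun A _ => rnk_w3_top ρ ψ h3 one_ne_zero 0 A, Finset.sum_const,
    Finset.card_univ, smul_eq_mul]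

theorem rnk_w3_zero (hm : mm ρ ψ = 1) {B : F} (hB : B ≠ 0) (A : F) :
    rnk (w3 ρ ψ 0 B A) = 1 := by
  have hall : ∀ A', rnk (w3 ρ ψ 0 B A') = rnk (w3 ρ ψ 0 B A) := fun A' => by
    have h := rnk_semiconj ρ (shear_seven ρ ψ B A ((A' - A) / (3 * B))) (w3_idem ρ ψ _ _ _)
      (w3_idem ρ ψ _ _ _)
    rwa [show A + 3 * ((A' - A) / (3 * B)) * B = A' by field_simp; ring] at h
  have h := sum_rnk ρ ψ hψ 9 (pr_idem ρ ψ 0 B) (pr_nine_comm ρ ψ 0 B)
  have h' : ∑ A' : F, rnk (w3 ρ ψ 0 B A') = rnk (pr ρ ψ 0 B) := h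
  rw [rnk_pr ρ ψ (Or.inr hB), dd_eq ρ ψ hψ h3, hm, Finset.sum_congr rfl fun A' _ => hall A',
    Finset.sum_const, Finset.card_univ, smul_eq_mul] at h'
  exact Nat.eq_of_mul_eq_mul_left Fintype.card_pos h'

/-- If the multiplicity is one, every non-trivial weight of `b` occurs on the fixed space. -/
theorem rnk_e6_pos (hm : mm ρ ψ = 1) {l : Fˣ} (h2 : (l : F) ^ 2 ≠ 1) (h3' : (l : F) ^ 3 ≠ 1) :
    rnk (e6 ρ ψ 1) ≠ 0 := by
  set e := w3 ρ ψ (0 : F) 1 0 with he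
  have hr : rnk e = 1 := rnk_w3_zero ρ ψ hψ h3 hm one_ne_zero 0
  have hi : IsIdempotentElem e := w3_idem ρ ψ _ _ _
  have hh : Commute (ρ (tor l (l ^ 3))) e := by
    have h := tor_w3 ρ ψ l (l ^ 3) 0 1 0
    rwa [zero_mul, zero_mul, show (1 : F) * (wgt l (l ^ 3) 10 : F) = 1 by
      simp [wgt, expA, expB]] at h
  have f8 : ∀ t, ρ (x 8 t) * e = e := fix_of_scale ρ hi hr.le 8
    (fun t => by
      have h := shear_eight ρ ψ 0 1 0 t
      rwa [mul_zero, add_zero] at h) _ ((l : F) ^ 2) h2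
    (fun t => by
      rw [tor_conj]
      congr 2
      simp [wgt, expA, expB]
      field_simp) hh
  have f6 : ∀ t, ρ (x 6 t) * e = e := fix_of_scale ρ hi hr.le 6
    (fun t => by
      have h := shear_six ρ ψ 0 1 0 t
      rwa [zero_mul, add_zero] at h) _ ((l : F) ^ 3) h3'
    (fun t => by
      rw [tor_conj]
      congr 2
      simp [wgt, expA, expB]
      field_simp) hh
  obtain ⟨v, hv0, hv⟩ := exists_fix hi (by omega)
  have hp11 : p ρ ψ 11 0 v = v := fix_of_mul (p_idem ρ ψ 11 0) (fix_of_mul (pr_idem ρ ψ 0 1) hv)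
  have hp10 : p ρ ψ 10 1 v = v :=
    fix_of_mul' (p_idem ρ ψ 10 1) (pp_comm ρ ψ 11 10 (by decide +kernel) 0 1)
      (fix_of_mul (pr_idem ρ ψ 0 1) hv)
  have hp6 : p ρ ψ 6 0 v = v := (p_fix_iff ρ ψ 6 0 v).2 fun t => by
    rw [zero_mul, AddChar.map_zero_eq_one, one_smul]
    conv_rhs => rw [← hv, ← f6 t, Module.End.mul_apply, hv]
  set u := ρ nA v with hu
  have hu0 : u ≠ 0 := fun h0 => hv0 (by
    have := congrArg (ρ nA⁻¹) h0
    rwa [hu, ← Module.End.mul_apply, ← map_mul, inv_mul_cancel, map_one, Module.End.one_apply,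
      map_zero] at this)
  have push : ∀ (i : Fin 12) (A : F), p ρ ψ i (A * (eA i : F)) v = v →
      p ρ ψ (sA i) A u = u := fun i A h => by
    rw [hu, ← Module.End.mul_apply, ← (semiconj_nA ρ ψ i A).eq, Module.End.mul_apply, h]
  have u11 : p ρ ψ 11 0 u = u := push 11 0 (by rwa [zero_mul])
  have u10 : p ρ ψ 10 0 u = u := push 6 0 (by rwa [zero_mul])
  have u6 : p ρ ψ 6 (-1) u = u := push 10 (-1) (by
    rwa [show (-1 : F) * ((eA 10 : ℤ) : F) = 1 by simp [eA]])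
  have h6 : rnk (e6 ρ ψ (-1)) ≠ 0 := by
    refine rnk_ne_zero hu0 ?_
    rw [e6, Module.End.mul_apply, u6, pr, Module.End.mul_apply, u10, u11]
  rwa [rnk_e6 ρ ψ (neg_ne_zero.2 one_ne_zero)] at h6

/-- Either the degree is large, or the fixed space of the pair has all weights of `b`. -/
theorem coprime_cases (hq : 5 ≤ Fintype.card F) (hinj : ∀ g, ρ g = 1 → g = 1) :
    Fintype.card F ^ 3 + 1 ≤ finrank ℂ V ∨
      (mm ρ ψ = 1 ∧ dd ρ ψ = Fintype.card F ∧ rnk (e6 ρ ψ 1) ≠ 0 ∧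
        ee ρ ψ = rnk (e6 ρ ψ 0) + (Fintype.card F - 1) * rnk (e6 ρ ψ 1) ∧
        (finrank ℂ V : ℤ) = ee ρ ψ + ((Fintype.card F : ℤ) ^ 2 - 1) * Fintype.card F) := by
  classical
  have hd := dd_eq ρ ψ hψ h3
  have hn := finrank_eq ρ ψ hψ
  have hpos := dd_pos ρ ψ hψ hinj
  by_cases h2 : 2 ≤ mm ρ ψ
  · left
    have hq5 : (5 : ℤ) ≤ (Fintype.card F : ℤ) := by exact_mod_cast hq
    have hd2 : 2 * (Fintype.card F : ℤ) ≤ dd ρ ψ := by
      rw [hd]
      push_cast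
      nlinarith
    have h1 : ((Fintype.card F : ℤ) ^ 2 - 1) * (2 * Fintype.card F) ≤
        ((Fintype.card F : ℤ) ^ 2 - 1) * dd ρ ψ := mul_le_mul_of_nonneg_left hd2 (by nlinarith)
    have he : (0 : ℤ) ≤ ee ρ ψ := by positivity
    have : ((Fintype.card F ^ 3 + 1 : ℕ) : ℤ) ≤ (finrank ℂ V : ℤ) := by
      push_cast
      nlinarith
    exact_mod_cast this
  · right
    have hm : mm ρ ψ = 1 := by
      rcases Nat.eq_zero_or_pos (mm ρ ψ) with h0 | h0
      · rw [hd, h0, mul_zero] at hpos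
        omega
      · omega
    obtain ⟨l, hl2, hl3⟩ : ∃ l : Fˣ, (l : F) ^ 2 ≠ 1 ∧ (l : F) ^ 3 ≠ 1 := by
      obtain ⟨g, hg⟩ := IsCyclic.exists_ofOrder_eq_natCard (α := Fˣ)
      have hcard : orderOf g = Fintype.card F - 1 := by
        rw [hg, Nat.card_eq_fintype_card, Fintype.card_units]
      refine ⟨g, fun h => ?_, fun h => ?_⟩
      · have := orderOf_dvd_of_pow_eq_one (x := g) (n := 2) (Units.ext (by simpa using h))
        rw [hcard] at this
        have := Nat.le_of_dvd (by omega) this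
        omega
      · have := orderOf_dvd_of_pow_eq_one (x := g) (n := 3) (Units.ext (by simpa using h))
        rw [hcard] at this
        have := Nat.le_of_dvd (by omega) this
        omega
    refine ⟨hm, by rw [hd, hm, mul_one], rnk_e6_pos ρ ψ hψ h3 hm hl2 hl3, ?_, ?_⟩
    · rw [ee, ← sum_rnk ρ ψ hψ 6 (pr_idem ρ ψ 0 0) (pr_six_comm ρ ψ)]
      show ∑ a : F, rnk (e6 ρ ψ a) = _
      rw [← Finset.add_sum_erase _ _ (Finset.mem_univ (0 : F)),
        Finset.sum_congr rfl fun a ha => rnk_e6 ρ ψ (Finset.mem_erase.1 ha).1, Finset.sum_const,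
        Finset.card_erase_of_mem (Finset.mem_univ _), Finset.card_univ, smul_eq_mul]
    · rw [hn, hd, hm, mul_one]

theorem bound_two (hq : 5 ≤ Fintype.card F) (hinj : ∀ g, ρ g = 1 → g = 1) :
    Fintype.card F ^ 3 - 1 ≤ finrank ℂ V := by
  rcases coprime_cases ρ ψ hψ h3 hq hinj with h | ⟨-, -, h1, he, hn⟩
  · omega
  · have h2 : Fintype.card F - 1 ≤ ee ρ ψ := by
      rw [he]
      exact le_add_left (Nat.le_mul_of_pos_right _ (Nat.pos_of_ne_zero h1))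
    have h2' : (Fintype.card F : ℤ) - 1 ≤ ee ρ ψ := by
      have := Int.ofNat_le.2 h2
      push_cast [Nat.cast_sub (show 1 ≤ Fintype.card F by omega)] at this
      exact this
    have : ((Fintype.card F ^ 3 - 1 : ℕ) : ℤ) ≤ (finrank ℂ V : ℤ) := by
      rw [Nat.cast_sub (Nat.one_le_pow _ _ (by omega)), hn]
      push_cast
      nlinarith
    exact_mod_cast this

end CfsgLib.GTwoDegree
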