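import Cfsg.Agent.Chevalley.WeylData
import Cfsg.Agent.Chevalley.Bruhat
import Cfsg.Agent.ChevTorus.Scaling
import Cfsg.Agent.ChevSimple.Basic

/-!
# Root elements, torus and reflections of `G₂(q)` as elements of the group

`a` is index 7 (short), `b` index 6 (long).
-/

set_option autoImplicit false

namespace CfsgLib.GTwoDegree

open Cfsg.Lie CfsgLib.Chevalley

theorem hW : GoodWeyl chevG2 := goodWeyl_of_mem (by simp)

/-- The group. -/
abbrev G2 (F : Type*) [Field F] := ↥(chevG2.group F)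

/-- A root by index. -/
abbrev rt (i : Fin 12) : Root chevG2 := ⟨i.1, i.2⟩

variable {F : Type*} [Field F]

/-- The root elements. -/
def x (i : Fin 12) : AddChar F (G2 F) where
  toFun t := ⟨X hW.good (rt i) t, X_mem_group _ _ _⟩
  map_zero_eq_one' := Subtype.ext (X_zero hW.good _)
  map_add_eq_mul' _ _ := Subtype.ext (X_mul hW.good _ _ _).symm

theorem coe_x (i : Fin 12) (t : F) :
    ((x i t : G2 F) : GL chevG2.Idx F) = X hW.good (rt i) t := rfl

theorem coe_x_mat (i : Fin 12) (t : F) :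
    (((x i t : G2 F) : GL chevG2.Idx F) : Matrix chevG2.Idx chevG2.Idx F) = chevG2.x F i t :=
  (x_eq_xR hW.good F _ t).symm

theorem x_eq_one (i : Fin 12) {t : F} (h : x i t = 1) : t = 0 := by
  have h' : X hW.good (rt i) t = X hW.good (rt i) (0 : F) := by
    rw [X_zero, ← coe_x, h]
    rfl
  exact X_injective hW.good _ h'

/-- The product of a list of terms of Chevalley's formula. -/
def terms (L : List (Fin 12 × ℤ × ℕ × ℕ)) (t u : F) : G2 F :=
  (L.map fun c => x c.1 ((c.2.1 : F) * t ^ c.2.2.1 * u ^ c.2.2.2)).prod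

theorem conj_x (r s : Fin 12) (h : s ≠ r ∧ rt s ≠ (rt r).rev) (L : List (Fin 12 × ℤ × ℕ × ℕ))
    (hL : chevG2.commTerms r s = L.map fun c => (c.1.1, c.2)) (t u : F) :
    x r t * x s u * (x r t)⁻¹ = x s u * terms L t u := by
  have h0 := X_comm hW.toGoodComm (rt r) (rt s) (fun e => h.1 (Fin.ext (Fin.ext_iff.1 e :))) h.2
    (-t) u
  have h1 : x s u * x r (-t) = x r (-t) * x s u * terms L t u := by
    apply Subtype.ext
    simp only [Subgroup.coe_mul, coe_x]
    rw [h0, commRhs, hL, wordGL, terms, List.map_map, List.map_map]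
    congr 1
    rw [← Subgroup.coe_subtype, map_list_prod, List.map_map]
    congr 1
    refine List.map_congr_left fun c _ => ?_
    show (if h : c.1.1 < chevG2.nroots then _ else _) = _
    simp only [Function.comp_apply, neg_neg]
    rw [dif_pos (show c.1.1 < chevG2.nroots from c.1.2)]
    rfl
  rw [mul_assoc, ← AddChar.map_neg_eq_inv, h1, ← mul_assoc, ← mul_assoc,
    ← AddChar.map_add_eq_mul, add_neg_cancel, AddChar.map_zero_eq_one, one_mul]

theorem commute_x (r s : Fin 12) (h : s ≠ r ∧ rt s ≠ (rt r).rev)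
    (hL : chevG2.commTerms r s = []) (t u : F) : Commute (x r t) (x s u) := by
  have h1 := conj_x r s h [] hL t u
  rw [terms, List.map_nil, List.prod_nil, mul_one] at h1
  exact mul_inv_eq_iff_eq_mul.1 h1

/-- A single term in the formula. -/
theorem conj_one (r s k : Fin 12) (c : ℤ) (h : s ≠ r ∧ rt s ≠ (rt r).rev)
    (hL : chevG2.commTerms r s = [(k.1, c, 1, 1)]) (t u : F) :
    x r t * x s u * (x r t)⁻¹ = x s u * x k ((c : F) * t * u) := by
  rw [conj_x r s h [(k, c, 1, 1)] hL]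
  simp [terms]

/-- The exponents of the torus. -/
def expA : Fin 12 → ℤ := ![0, -3, -1, 1, -2, 3, -3, 2, -1, 1, 3, 0]

/-- The exponents of the torus. -/
def expB : Fin 12 → ℤ := ![-1, 1, 0, -1, 1, -2, 2, -1, 1, 0, -1, 1]

theorem exp_facts : ∀ i : Fin 12, chevG2.cartan 0 i = expA i ∧ chevG2.cartan 1 i = expB i := by
  decide +kernel

/-- The element `h_a(l) h_b(m)` of the torus. -/
def tor (l m : Fˣ) : G2 F :=
  ⟨torC chevG2 (fun k : Fin chevG2.rank => (![l, m] : Fin 2 → Fˣ) k),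
    CfsgLib.ChevSimple.torC_mem_group hW _⟩

theorem tor_mul (l m l' m' : Fˣ) : tor l m * tor l' m' = tor (l * l') (m * m') := by
  apply Subtype.ext
  show torC chevG2 _ * torC chevG2 _ = torC chevG2 _
  rw [torC_mul]
  congr 1
  funext k
  obtain ⟨k, hk⟩ := k
  rcases k with _ | _ | k
  · rfl
  · rfl
  · exact absurd hk (by show ¬ (k + 2 < 2); omega)

theorem tor_one : tor (1 : Fˣ) 1 = 1 :=
  mul_eq_left.1 (by rw [tor_mul, one_mul] : tor (1 : Fˣ) 1 * tor 1 1 = tor 1 1)

theorem tor_comm (l m l' m' : Fˣ) : Commute (tor l m) (tor l' m') := by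
  rw [Commute, SemiconjBy, tor_mul, tor_mul, mul_comm l, mul_comm m]

/-- The multiplier of the torus on a root. -/
def wgt (l m : Fˣ) (i : Fin 12) : Fˣ := l ^ expA i * m ^ expB i

theorem tor_conj (l m : Fˣ) (i : Fin 12) (t : F) :
    tor l m * x i t * (tor l m)⁻¹ = x i ((wgt l m i : F) * t) := by
  apply Subtype.ext
  simp only [Subgroup.coe_mul, Subgroup.coe_inv, coe_x]
  show torC chevG2 _ * _ * (torC chevG2 _)⁻¹ = _
  rw [CfsgLib.ChevTorus.torC_conj_X hW.good]
  congr 3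
  rw [CfsgLib.ChevTorus.torVal, wgt, ← (exp_facts i).1, ← (exp_facts i).2]
  show ∏ k : Fin 2, _ = _
  rw [Fin.prod_univ_two]
  rfl

theorem rank_two : chevG2.rank = 2 := rfl

/-- The index of `a`. -/
abbrev ia : Fin chevG2.rank := ⟨0, by decide⟩

/-- The index of `b`. -/
abbrev ib : Fin chevG2.rank := ⟨1, by decide⟩

/-- The reflection in `a`. -/
def nA : G2 F := ⟨nR hW ia, nR_mem_group hW _⟩

/-- The reflection in `b`. -/
def nB : G2 F := ⟨nR hW ib, nR_mem_group hW _⟩

/-- The images of the roots under `a`. -/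
def sA : Fin 12 → Fin 12 := ![0, 5, 3, 2, 7, 1, 10, 4, 9, 8, 6, 11]

/-- The signs. -/
def eA : Fin 12 → ℤ := ![1, -1, -1, 1, -1, 1, 1, -1, 1, -1, -1, 1]

/-- The images of the roots under `b`. -/
def sB : Fin 12 → Fin 12 := ![1, 0, 2, 4, 3, 6, 5, 8, 7, 9, 11, 10]

/-- The signs. -/
def eB : Fin 12 → ℤ := ![-1, 1, 1, -1, 1, -1, -1, 1, -1, 1, 1, -1]

theorem refl_facts : ∀ i : Fin 12,
    reflT chevG2 0 i = sA i ∧ etaT chevG2 0 i = eA i ∧
      reflT chevG2 1 i = sB i ∧ etaT chevG2 1 i = eB i := by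
  decide +kernel

theorem nA_conj (i : Fin 12) (t : F) : nA * x i t * nA⁻¹ = x (sA i) ((eA i : F) * t) := by
  apply Subtype.ext
  simp only [Subgroup.coe_mul, Subgroup.coe_inv, coe_x, nA]
  rw [nR_conj]
  congr 1
  · exact Fin.ext (refl_facts i).1
  · rw [eta, ← (refl_facts i).2.1]

theorem nB_conj (i : Fin 12) (t : F) : nB * x i t * nB⁻¹ = x (sB i) ((eB i : F) * t) := by
  apply Subtype.ext
  simp only [Subgroup.coe_mul, Subgroup.coe_inv, coe_x, nB]
  rw [nR_conj]
  congr 1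
  · exact Fin.ext (refl_facts i).2.2.1
  · rw [eta, ← (refl_facts i).2.2.2]

theorem nB_eq : nB = x 6 (1 : F) * x 5 (-1) * x 6 1 := by
  apply Subtype.ext
  simp only [Subgroup.coe_mul, coe_x, nB, nR]
  have h : pRoot hW ib = rt 6 := by decide +kernel
  rw [h]
  rfl

/-- The reflection in `3 a + b`. -/
def nC : G2 F := nA * nB * nA⁻¹

theorem nC_eq : nC = x 10 (1 : F) * x 1 (-1) * x 10 1 := by
  have e : nA * (x 6 (1 : F) * x 5 (-1) * x 6 1) * nA⁻¹ =
      (nA * x 6 (1 : F) * nA⁻¹) * (nA * x 5 (-1) * nA⁻¹) * (nA * x 6 1 * nA⁻¹) := by group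
  rw [nC, nB_eq, e, nA_conj, nA_conj]
  simp [sA, eA]

end CfsgLib.GTwoDegree
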