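import Cfsg.Agent.GTwoDegree.Coprime

/-!
# Compressing the opposite pair to the fixed space of the pair

`P₀ x P₀`, for `x` in the opposite pair, is a multiple of a projection of rank at most one; so `P₀ T P₀`,
for `T` a non-trivial weight projector of the opposite pair, is a non-zero scalar on the lines with
non-trivial weights of `b`.
-/

set_option autoImplicit false
set_option linter.unusedSectionVars false

namespace CfsgLib.GTwoDegree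

open Module CfsgLib.RepBounds Cfsg.Lie

variable {F : Type*} [Field F] [Fintype F] {V : Type*} [AddCommGroup V] [Module ℂ V]
  [FiniteDimensional ℂ V] (ρ : Representation ℂ (G2 F) V) (ψ : AddChar F ℂ)

theorem map_inv_mul (g : G2 F) : ρ g⁻¹ * ρ g = 1 := by rw [← map_mul, inv_mul_cancel, map_one]

theorem map_mul_inv (g : G2 F) : ρ g * ρ g⁻¹ = 1 := by rw [← map_mul, mul_inv_cancel, map_one]

theorem inv_semiconj {g : G2 F} {X Y : End ℂ V} (h : SemiconjBy (ρ g) X Y) :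
    SemiconjBy (ρ g⁻¹) Y X := by
  rw [SemiconjBy]
  calc ρ g⁻¹ * Y = ρ g⁻¹ * (Y * ρ g) * ρ g⁻¹ := by
        rw [mul_assoc (ρ g⁻¹), mul_assoc Y, map_mul_inv, mul_one]
    _ = X * ρ g⁻¹ := by rw [← h.eq, ← mul_assoc, map_inv_mul, one_mul]

theorem conj_of_semiconj {g : G2 F} {X Y : End ℂ V} (h : SemiconjBy (ρ g) X Y) :
    ρ g * X * ρ g⁻¹ = Y := by rw [h.eq, mul_assoc, map_mul_inv, mul_one]

theorem pr_absorb (i : Fin 12) (hi : i = 10 ∨ i = 11) (t : F) :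
    ρ (x i t) * pr ρ ψ (0 : F) 0 = pr ρ ψ 0 0 ∧ pr ρ ψ (0 : F) 0 * ρ (x i t) = pr ρ ψ 0 0 := by
  rcases hi with rfl | rfl
  · constructor
    · rw [pr, (pp_comm ρ ψ 11 10 (by decide +kernel) 0 0).eq, ← mul_assoc, map_mul_p, zero_mul,
        AddChar.map_zero_eq_one, one_smul]
    · rw [pr, mul_assoc, p_mul_map, zero_mul, AddChar.map_zero_eq_one, one_smul]
  · constructor
    · rw [pr, ← mul_assoc, map_mul_p, zero_mul, AddChar.map_zero_eq_one, one_smul]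
    · rw [pr, (pp_comm ρ ψ 11 10 (by decide +kernel) 0 0).eq, mul_assoc, p_mul_map, zero_mul,
        AddChar.map_zero_eq_one, one_smul]

theorem e6_absorb (t : F) : ρ (x 6 t) * e6 ρ ψ 0 = e6 ρ ψ 0 ∧ e6 ρ ψ 0 * ρ (x 6 t) = e6 ρ ψ 0 := by
  constructor
  · rw [e6, ← mul_assoc, (six_comm_pr ρ ψ t 0).eq, mul_assoc, map_mul_p, zero_mul,
      AddChar.map_zero_eq_one, one_smul]
  · rw [e6, mul_assoc, p_mul_map, zero_mul, AddChar.map_zero_eq_one, one_smul]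

theorem pr_mul_e6 (a : F) : pr ρ ψ 0 0 * e6 ρ ψ a = e6 ρ ψ a ∧
    e6 ρ ψ a * pr ρ ψ 0 0 = e6 ρ ψ a := by
  constructor
  · rw [e6, ← mul_assoc, (pr_idem ρ ψ 0 0).eq]
  · rw [e6, mul_assoc, ← (pr_six_comm ρ ψ a).eq, ← mul_assoc, (pr_idem ρ ψ 0 0).eq]

theorem e6_orth (hψ : ψ ≠ 0) {a b : F} (h : a ≠ b) : e6 ρ ψ a * e6 ρ ψ b = 0 := by
  conv_lhs => rw [e6, mul_assoc, e6, ← mul_assoc (p ρ ψ 6 a), ← (pr_six_comm ρ ψ a).eq, mul_assoc,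
    p_orth ρ ψ hψ 6 h, mul_zero, mul_zero]

theorem tor_comm_e6 (l m : Fˣ) : Commute (ρ (tor l m)) (e6 ρ ψ (0 : F)) := by
  refine (tor_comm_pr ρ ψ l m).mul_right ?_
  have h := semiconj_tor ρ ψ l m 6 0
  rwa [zero_mul] at h

theorem nA_comm_e6 : Commute (ρ nA) (e6 ρ ψ (0 : F)) := by
  have a11 := semiconj_nA ρ ψ 11 0
  have a10 := semiconj_nA ρ ψ 10 0
  have a6 := semiconj_nA ρ ψ 6 0
  rw [zero_mul] at a11 a10 a6
  rw [show sA 11 = 11 from rfl] at a11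
  rw [show sA 10 = 6 from rfl] at a10
  rw [show sA 6 = 10 from rfl] at a6
  have h := (a11.mul_right a10).mul_right a6
  have e : p ρ ψ 11 0 * p ρ ψ 6 0 * p ρ ψ 10 0 = p ρ ψ 11 0 * p ρ ψ 10 0 * p ρ ψ 6 0 := by
    rw [(pp_comm ρ ψ 11 6 (by decide +kernel) 0 0).eq, mul_assoc]
    exact ((pr_six_comm ρ ψ 0).eq).symm
  rwa [e] at h

theorem nB_comm_pr : Commute (ρ nB) (pr ρ ψ (0 : F) 0) := by
  have b11 := semiconj_nB ρ ψ 11 0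
  have b10 := semiconj_nB ρ ψ 10 0
  rw [zero_mul] at b11 b10
  rw [show sB 11 = 10 from rfl] at b11
  rw [show sB 10 = 11 from rfl] at b10
  have h := b11.mul_right b10
  rwa [(pp_comm ρ ψ 10 11 (by decide +kernel) 0 0).eq] at h

/-- The conjugate of the vectors fixed by `b` under the reflection in `b`. -/
noncomputable def qq : End ℂ V := pr ρ ψ (0 : F) 0 * p ρ ψ 5 0

theorem semiconj_qq : SemiconjBy (ρ nB) (e6 ρ ψ (0 : F)) (qq ρ ψ) := by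
  have b6 := semiconj_nB ρ ψ 6 0
  rw [zero_mul] at b6
  exact SemiconjBy.mul_right (nB_comm_pr ρ ψ) b6

theorem tor_comm_qq (l m : Fˣ) : Commute (ρ (tor l m)) (qq ρ ψ) := by
  refine (tor_comm_pr ρ ψ l m).mul_right ?_
  have h := semiconj_tor ρ ψ l m 5 0
  rwa [zero_mul] at h

theorem nC_conj_six (t : F) : nC * x 6 t * nC⁻¹ = x 11 (((eB 10 : ℤ) : F) * (-t)) := by
  have e : nA * x 10 (-t) * nA⁻¹ = x 6 t := by
    rw [nA_conj]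
    simp [sA, eA]
  have e2 : nC * (nA * x 10 (-t) * nA⁻¹) * nC⁻¹ = nA * (nB * x 10 (-t) * nB⁻¹) * nA⁻¹ := by
    rw [nC]; group
  rw [e] at e2
  rw [e2, nB_conj, show sB 10 = 11 from rfl, nA_conj]
  simp [sA, eA]

theorem nC_conj_eleven (t : F) : nC * x 11 t * nC⁻¹ = x 6 (-(((eB 11 : ℤ) : F) * t)) := by
  have e : nA * x 11 t * nA⁻¹ = x 11 t := by
    rw [nA_conj]
    simp [sA, eA]
  have e2 : nC * (nA * x 11 t * nA⁻¹) * nC⁻¹ = nA * (nB * x 11 t * nB⁻¹) * nA⁻¹ := by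
    rw [nC]; group
  rw [e] at e2
  rw [e2, nB_conj, show sB 11 = 10 from rfl, nA_conj]
  simp [sA, eA]

theorem compress_nC :
    pr ρ ψ (0 : F) 0 * ρ nC * pr ρ ψ 0 0 = e6 ρ ψ 0 * ρ nC * e6 ρ ψ 0 := by
  have s6 : SemiconjBy (ρ nC) (p ρ ψ 6 0) (p ρ ψ 11 0) := by
    have h := semiconj_p ρ ψ nC 6 11 (-((eB 10 : ℤ) : F)) (neg_ne_zero.2 (eB_ne_zero 10))
      (fun t => by rw [nC_conj_six]; congr 1; ring) 0
    rwa [zero_mul] at h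
  have s11 : SemiconjBy (ρ nC) (p ρ ψ 11 0) (p ρ ψ 6 0) := by
    have h := semiconj_p ρ ψ nC 11 6 (-((eB 11 : ℤ) : F)) (neg_ne_zero.2 (eB_ne_zero 11))
      (fun t => by rw [nC_conj_eleven]; congr 1; ring) 0
    rwa [zero_mul] at h
  have a : p ρ ψ 11 0 * pr ρ ψ 0 0 = pr ρ ψ 0 0 := by
    rw [pr, ← mul_assoc, (p_idem ρ ψ 11 0).eq]
  have a' : pr ρ ψ 0 0 * p ρ ψ 11 0 = pr ρ ψ 0 0 := by
    rw [pr, mul_assoc, ← (pp_comm ρ ψ 11 10 (by decide +kernel) 0 0).eq, ← mul_assoc,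
      (p_idem ρ ψ 11 0).eq]
  calc pr ρ ψ 0 0 * ρ nC * pr ρ ψ 0 0 = pr ρ ψ 0 0 * (ρ nC * p ρ ψ 11 0) * pr ρ ψ 0 0 := by
        rw [mul_assoc (pr ρ ψ 0 0) (ρ nC * _), mul_assoc (ρ nC), a, mul_assoc]
    _ = e6 ρ ψ 0 * ρ nC * pr ρ ψ 0 0 := by rw [s11.eq, e6]; simp only [mul_assoc]
    _ = e6 ρ ψ 0 * (p ρ ψ 11 0 * ρ nC) * pr ρ ψ 0 0 := by
        have a'' : e6 ρ ψ 0 * p ρ ψ 11 0 = e6 ρ ψ 0 := by
          rw [e6, mul_assoc, (pp_comm ρ ψ 6 11 (by decide +kernel) 0 0).eq, ← mul_assoc, a']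
        rw [← mul_assoc (e6 ρ ψ 0), a'']
    _ = e6 ρ ψ 0 * ρ nC * e6 ρ ψ 0 := by
        rw [← s6.eq, e6, (pr_six_comm ρ ψ 0).eq]; simp only [mul_assoc]

/-- The data of the compression when the vectors fixed by `b` form at most a line. -/
structure Compress (c : ℂ) : Prop where
  refl : e6 ρ ψ (0 : F) * ρ nB * e6 ρ ψ 0 = c • e6 ρ ψ 0
  zero : e6 ρ ψ (0 : F) = 0 → c = 0

theorem exists_compress (h : rnk (e6 ρ ψ (0 : F)) ≤ 1) : ∃ c, Compress ρ ψ c := by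
  obtain ⟨c, hc⟩ := exists_smul_of_rnk_le_one (e6_idem ρ ψ 0) h (ρ nB)
  by_cases h0 : e6 ρ ψ (0 : F) = 0
  · exact ⟨0, by simp [h0], fun _ => rfl⟩
  · exact ⟨c, hc, fun e => absurd e h0⟩

variable {ρ ψ} {c : ℂ} (hc : Compress ρ ψ c)
include hc

theorem one_compress {s : F} (hs : s ≠ 0) :
    pr ρ ψ 0 0 * ρ (x 1 s) * pr ρ ψ 0 0 = c • e6 ρ ψ 0 := by
  have h1 : pr ρ ψ 0 0 * ρ (x 1 (-1)) * pr ρ ψ 0 0 = c • e6 ρ ψ 0 := by
    calc pr ρ ψ 0 0 * ρ (x 1 (-1)) * pr ρ ψ 0 0 =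
          (pr ρ ψ 0 0 * ρ (x 10 (1 : F))) * ρ (x 1 (-1)) * (ρ (x 10 (1 : F)) * pr ρ ψ 0 0) := by
          rw [(pr_absorb ρ ψ 10 (Or.inl rfl) 1).1, (pr_absorb ρ ψ 10 (Or.inl rfl) 1).2]
      _ = pr ρ ψ 0 0 * ρ nC * pr ρ ψ 0 0 := by rw [nC_eq, map_mul, map_mul]; simp only [mul_assoc]
      _ = e6 ρ ψ 0 * ρ nC * e6 ρ ψ 0 := compress_nC ρ ψ
      _ = ρ nA * (e6 ρ ψ 0 * ρ nB * e6 ρ ψ 0) * ρ nA⁻¹ := by
          rw [nC, map_mul, map_mul]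
          have h1 := (nA_comm_e6 ρ ψ).eq
          have h2 : Commute (ρ nA⁻¹) (e6 ρ ψ 0) := inv_semiconj ρ (nA_comm_e6 ρ ψ)
          calc e6 ρ ψ 0 * (ρ nA * ρ nB * ρ nA⁻¹) * e6 ρ ψ 0 =
                (e6 ρ ψ 0 * ρ nA) * ρ nB * (ρ nA⁻¹ * e6 ρ ψ 0) := by simp only [mul_assoc]
            _ = _ := by rw [← h1, h2.eq]; simp only [mul_assoc]
      _ = c • e6 ρ ψ 0 := by
          rw [hc.refl, mul_smul_comm, smul_mul_assoc, conj_of_semiconj ρ (nA_comm_e6 ρ ψ)]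
  set h := tor (1 : Fˣ) (Units.mk0 (-s) (neg_ne_zero.2 hs)) with hh
  have e : x 1 s = h * x 1 (-1) * h⁻¹ := by
    rw [hh, tor_conj]
    congr 1
    simp [wgt, expA, expB]
  rw [e, map_mul, map_mul]
  calc pr ρ ψ 0 0 * (ρ h * ρ (x 1 (-1)) * ρ h⁻¹) * pr ρ ψ 0 0 =
        (pr ρ ψ 0 0 * ρ h) * ρ (x 1 (-1)) * (ρ h⁻¹ * pr ρ ψ 0 0) := by simp only [mul_assoc]
    _ = ρ h * (pr ρ ψ 0 0 * ρ (x 1 (-1)) * pr ρ ψ 0 0) * ρ h⁻¹ := by
        rw [hh, ← (tor_comm_pr ρ ψ _ _).eq, (inv_semiconj ρ (tor_comm_pr ρ ψ _ _)).eq]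
        simp only [mul_assoc]
    _ = _ := by rw [h1, mul_smul_comm, smul_mul_assoc, conj_of_semiconj ρ (tor_comm_e6 ρ ψ _ _)]

theorem zero_compress {t : F} (ht : t ≠ 0) :
    pr ρ ψ 0 0 * ρ (x 0 t) * pr ρ ψ 0 0 = c • qq ρ ψ := by
  have e : x 0 t = nB * x 1 t * nB⁻¹ := by
    rw [nB_conj]
    simp [sB, eB]
  rw [e, map_mul, map_mul]
  calc pr ρ ψ 0 0 * (ρ nB * ρ (x 1 t) * ρ nB⁻¹) * pr ρ ψ 0 0 =
        (pr ρ ψ 0 0 * ρ nB) * ρ (x 1 t) * (ρ nB⁻¹ * pr ρ ψ 0 0) := by simp only [mul_assoc]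
    _ = ρ nB * (pr ρ ψ 0 0 * ρ (x 1 t) * pr ρ ψ 0 0) * ρ nB⁻¹ := by
        rw [← (nB_comm_pr ρ ψ).eq, (inv_semiconj ρ (nB_comm_pr ρ ψ)).eq]
        simp only [mul_assoc]
    _ = _ := by
        rw [one_compress hc ht, mul_smul_comm, smul_mul_assoc, conj_of_semiconj ρ (semiconj_qq ρ ψ)]

theorem five_compress {s : F} (hs : s ≠ 0) :
    e6 ρ ψ 0 * ρ (x 5 s) * e6 ρ ψ 0 = c • e6 ρ ψ 0 := by
  have h1 : e6 ρ ψ 0 * ρ (x 5 (-1)) * e6 ρ ψ 0 = c • e6 ρ ψ 0 := by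
    rw [← hc.refl, nB_eq, map_mul, map_mul]
    calc e6 ρ ψ 0 * ρ (x 5 (-1)) * e6 ρ ψ 0 =
          (e6 ρ ψ 0 * ρ (x 6 (1 : F))) * ρ (x 5 (-1)) * (ρ (x 6 (1 : F)) * e6 ρ ψ 0) := by
          rw [(e6_absorb ρ ψ 1).1, (e6_absorb ρ ψ 1).2]
      _ = _ := by simp only [mul_assoc]
  set ν := Units.mk0 (-s) (neg_ne_zero.2 hs) with hν
  have e : x 5 s = tor ν ν * x 5 (-1) * (tor ν ν)⁻¹ := by
    rw [tor_conj]
    congr 1
    simp [hν, wgt, expA, expB]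
    field_simp
  rw [e, map_mul, map_mul]
  calc e6 ρ ψ 0 * (ρ (tor ν ν) * ρ (x 5 (-1)) * ρ (tor ν ν)⁻¹) * e6 ρ ψ 0 =
        (e6 ρ ψ 0 * ρ (tor ν ν)) * ρ (x 5 (-1)) * (ρ (tor ν ν)⁻¹ * e6 ρ ψ 0) := by
        simp only [mul_assoc]
    _ = ρ (tor ν ν) * (e6 ρ ψ 0 * ρ (x 5 (-1)) * e6 ρ ψ 0) * ρ (tor ν ν)⁻¹ := by
        rw [← (tor_comm_e6 ρ ψ _ _).eq, (inv_semiconj ρ (tor_comm_e6 ρ ψ _ _)).eq]
        simp only [mul_assoc]
    _ = _ := by rw [h1, mul_smul_comm, smul_mul_assoc, conj_of_semiconj ρ (tor_comm_e6 ρ ψ _ _)]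

theorem qq_sq : e6 ρ ψ 0 * qq ρ ψ * e6 ρ ψ 0 = (c * c) • e6 ρ ψ 0 := by
  have hinv : e6 ρ ψ 0 * ρ nB⁻¹ * e6 ρ ψ 0 = c • e6 ρ ψ 0 := by
    have e : (nB : G2 F)⁻¹ = x 6 (-1) * x 5 1 * x 6 (-1) := by
      rw [nB_eq, mul_inv_rev, mul_inv_rev, ← AddChar.map_neg_eq_inv, ← AddChar.map_neg_eq_inv,
        neg_neg, mul_assoc]
    rw [e, map_mul, map_mul, ← five_compress hc one_ne_zero]
    calc e6 ρ ψ 0 * (ρ (x 6 (-1)) * ρ (x 5 1) * ρ (x 6 (-1))) * e6 ρ ψ 0 =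
          (e6 ρ ψ 0 * ρ (x 6 (-1))) * ρ (x 5 1) * (ρ (x 6 (-1)) * e6 ρ ψ 0) := by
          simp only [mul_assoc]
      _ = _ := by rw [(e6_absorb ρ ψ _).1, (e6_absorb ρ ψ _).2]
  rw [← conj_of_semiconj ρ (semiconj_qq ρ ψ)]
  calc e6 ρ ψ 0 * (ρ nB * e6 ρ ψ 0 * ρ nB⁻¹) * e6 ρ ψ 0 =
        (e6 ρ ψ 0 * ρ nB * e6 ρ ψ 0) * ρ nB⁻¹ * e6 ρ ψ 0 := by simp only [mul_assoc]
    _ = (c * c) • e6 ρ ψ 0 := by
        rw [hc.refl, smul_mul_assoc, smul_mul_assoc, hinv, smul_smul]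

theorem qq_lin :
    ((Fintype.card F : ℂ) * (c * c) - (((Fintype.card F : ℂ) - 1) * c + 1)) • e6 ρ ψ 0 = 0 := by
  classical
  have hq0 : (Fintype.card F : ℂ) ≠ 0 := Nat.cast_ne_zero.mpr Fintype.card_ne_zero
  have h : (Fintype.card F : ℂ) • (e6 ρ ψ 0 * qq ρ ψ * e6 ρ ψ 0) =
      (((Fintype.card F : ℂ) - 1) * c + 1) • e6 ρ ψ 0 := by
    rw [qq, ← mul_assoc (e6 ρ ψ 0), (pr_mul_e6 ρ ψ 0).2, p_def, mul_smul_comm, smul_mul_assoc,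
      smul_inv_smul₀ hq0]
    simp only [zero_mul, neg_zero, AddChar.map_zero_eq_one, one_smul, Finset.mul_sum,
      Finset.sum_mul]
    rw [← Finset.add_sum_erase _ _ (Finset.mem_univ (0 : F)),
      Finset.sum_congr rfl fun s hs => five_compress hc (Finset.mem_erase.1 hs).1,
      AddChar.map_zero_eq_one, map_one, mul_one, (e6_idem ρ ψ 0).eq, Finset.sum_const,
      Finset.card_erase_of_mem (Finset.mem_univ _), Finset.card_univ, ← Nat.cast_smul_eq_nsmul ℂ,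
      smul_smul, Nat.cast_sub (Nat.one_le_iff_ne_zero.2 Fintype.card_ne_zero), add_smul, one_smul,
      Nat.cast_one, add_comm]
  rw [sub_smul, ← h, qq_sq hc, smul_smul, sub_self]

/-- The compressed weight projector of the opposite pair. -/
theorem compress_scalar (hψ : ψ ≠ 0) {κ : ℂ}
    {a : F} (ha : a ≠ 0) (hκ : e6 ρ ψ a * qq ρ ψ * e6 ρ ψ a = κ • e6 ρ ψ a) :
    ((Fintype.card F : ℂ) * (Fintype.card F : ℂ)) •
      (pr ρ ψ 0 0 * (p ρ ψ 1 0 * p ρ ψ 0 1) * e6 ρ ψ a) =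
      (1 - (Fintype.card F : ℂ) * c * κ) • e6 ρ ψ a := by
  classical
  set P := pr ρ ψ (0 : F) 0 with hP
  set qc := (Fintype.card F : ℂ) with hqc
  have hq0 : qc ≠ 0 := Nat.cast_ne_zero.mpr Fintype.card_ne_zero
  have hR : ∑ u : F, ρ (x 6 u) * qq ρ ψ * ρ (x 6 (-u)) * e6 ρ ψ a = (qc * κ) • e6 ρ ψ a := by
    have e1 : ∀ u, ρ (x 6 (-u)) * e6 ρ ψ a = ψ (-(a * u)) • e6 ρ ψ a := fun u => by
      rw [e6, ← mul_assoc, (six_comm_pr ρ ψ (-u) 0).eq, mul_assoc, map_mul_p, mul_neg,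
        mul_smul_comm]
    have e2 : p ρ ψ 6 a * qq ρ ψ = e6 ρ ψ a * qq ρ ψ := by
      have hqq : qq ρ ψ = P * qq ρ ψ := by rw [hP, qq, ← mul_assoc, (pr_idem ρ ψ 0 0).eq]
      conv_lhs => rw [hqq]
      rw [← mul_assoc, e6, (pr_six_comm ρ ψ a).eq]
    calc ∑ u : F, ρ (x 6 u) * qq ρ ψ * ρ (x 6 (-u)) * e6 ρ ψ a =
          ∑ u : F, (ψ (-(a * u)) • ρ (x 6 u)) * (qq ρ ψ * e6 ρ ψ a) :=
          Finset.sum_congr rfl fun u _ => by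
            rw [mul_assoc (ρ (x 6 u) * qq ρ ψ), e1, mul_smul_comm, smul_mul_assoc, mul_assoc]
      _ = qc • (p ρ ψ 6 a * (qq ρ ψ * e6 ρ ψ a)) := by
          rw [← Finset.sum_mul, p_def, smul_mul_assoc, smul_inv_smul₀ hq0]
      _ = _ := by rw [← mul_assoc, e2, hκ, smul_smul]
  have expand : (qc * qc) • (P * (p ρ ψ 1 0 * p ρ ψ 0 1) * e6 ρ ψ a) =
      ∑ t : F, ψ (-t) • ∑ s : F, P * ρ (x 1 s * x 0 t) * P * e6 ρ ψ a := by
    rw [p_def, p_def, smul_mul_smul_comm, mul_smul_comm, smul_mul_assoc, smul_smul,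
      show qc * qc * ((Fintype.card F : ℂ)⁻¹ * (Fintype.card F : ℂ)⁻¹) = 1 by
        rw [← hqc]; field_simp, one_smul]
    simp only [zero_mul, neg_zero, AddChar.map_zero_eq_one, one_smul, one_mul, Finset.mul_sum,
      Finset.sum_mul, Finset.smul_sum, mul_smul_comm, smul_mul_assoc, map_mul]
    refine Finset.sum_congr rfl fun t _ => Finset.sum_congr rfl fun s _ => ?_
    congr 1
    conv_lhs => rw [← (pr_mul_e6 ρ ψ a).1, ← hP]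
    simp only [mul_assoc]
  rw [expand, ← Finset.add_sum_erase _ _ (Finset.mem_univ (0 : F))]
  have t0 : ∑ s : F, P * ρ (x 1 s * x 0 (0 : F)) * P * e6 ρ ψ a = e6 ρ ψ a := by
    rw [← Finset.add_sum_erase _ _ (Finset.mem_univ (0 : F)),
      Finset.sum_eq_zero fun s hs => ?_]
    · rw [AddChar.map_zero_eq_one, AddChar.map_zero_eq_one, mul_one, map_one, mul_one,
        (pr_idem ρ ψ 0 0).eq, (pr_mul_e6 ρ ψ a).1, add_zero]
    · rw [AddChar.map_zero_eq_one, mul_one, one_compress hc (Finset.mem_erase.1 hs).1,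
        smul_mul_assoc, e6_orth ρ ψ hψ (Ne.symm ha), smul_zero]
  have tt : ∀ t ∈ (Finset.univ : Finset F).erase 0,
      ψ (-t) • ∑ s : F, P * ρ (x 1 s * x 0 t) * P * e6 ρ ψ a =
        ψ (-t) • ((c * (qc * κ)) • e6 ρ ψ a) := by
    intro t htm
    have ht : t ≠ 0 := (Finset.mem_erase.1 htm).1
    congr 1
    rw [← smul_smul, ← hR, Finset.smul_sum]
    refine (Fintype.sum_equiv (Equiv.mulLeft₀ (-t) (neg_ne_zero.2 ht))
      (fun u => c • (ρ (x 6 u) * qq ρ ψ * ρ (x 6 (-u)) * e6 ρ ψ a)) _ fun u => ?_).symm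
    rw [Equiv.mulLeft₀_apply]
    have e : x 1 (-t * u) * x 0 t = x 6 u * x 0 t * x 6 (-u) := by
      rw [(comm_xx 1 0 (by decide +kernel) (-t * u) t).eq, AddChar.map_neg_eq_inv,
        conj_xx 6 0 1 (-1) (by decide +kernel) u t]
      congr 2
      push_cast
      ring
    rw [e, map_mul, map_mul]
    calc c • (ρ (x 6 u) * qq ρ ψ * ρ (x 6 (-u)) * e6 ρ ψ a) =
          ρ (x 6 u) * (c • qq ρ ψ) * ρ (x 6 (-u)) * e6 ρ ψ a := by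
          simp only [mul_smul_comm, smul_mul_assoc]
      _ = ρ (x 6 u) * (P * ρ (x 0 t) * P) * ρ (x 6 (-u)) * e6 ρ ψ a := by rw [zero_compress hc ht]
      _ = (ρ (x 6 u) * P) * ρ (x 0 t) * (P * ρ (x 6 (-u))) * e6 ρ ψ a := by simp only [mul_assoc]
      _ = _ := by
          rw [hP, (six_comm_pr ρ ψ u 0).eq, ← (six_comm_pr ρ ψ (-u) 0).eq]
          simp only [mul_assoc]
  rw [t0, Finset.sum_congr rfl tt, ← Finset.sum_smul, neg_zero, AddChar.map_zero_eq_one, one_smul]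
  have hs : ∑ t ∈ (Finset.univ : Finset F).erase 0, ψ (-t) = -1 := by
    rw [Finset.sum_erase_eq_sub (Finset.mem_univ _), neg_zero, AddChar.map_zero_eq_one,
      Fintype.sum_equiv (Equiv.neg F) (fun t => ψ (-t)) ψ (fun t => rfl),
      (AddChar.sum_eq_zero_iff_ne_zero).2 hψ, zero_sub]
  rw [hs, smul_smul, sub_smul, one_smul, sub_eq_add_neg, ← neg_smul]
  congr 2
  ring

end CfsgLib.GTwoDegree
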