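import Cfsg.Agent.GTwoDegree.CharThree

/-!
# Characteristic three: the short root pair `a + b`, `2 a + b`

The exceptional isogeny carries the long pair to the short pair, so the non-trivial weights of the
short pair also have equal multiplicity `x ≥ q² - 1`; comparing, `q⁴ + q² - q - 1 ≤ dim V`.
-/

set_option autoImplicit false
set_option linter.unusedSectionVars false

namespace CfsgLib.GTwoDegree

open Module CfsgLib.RepBounds Cfsg.Lie

variable {F : Type*} [Field F] [Fintype F] {V : Type*} [AddCommGroup V] [Module ℂ V]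
  [FiniteDimensional ℂ V] (ρ : Representation ℂ (G2 F) V) (ψ : AddChar F ℂ)
  (φ : G2 F →* G2 F)

/-- The representation pulled back along the isogeny. -/
noncomputable def pull : Representation ℂ (G2 F) V := MonoidHom.comp ρ φ

theorem p_pull (i j : Fin 12) (h : ∀ t, φ (x i t) = x j t) (A : F) :
    p (pull ρ φ) ψ i A = p ρ ψ j A := by
  rw [p_def, p_def]
  refine congrArg _ (Finset.sum_congr rfl fun t _ => congrArg _ ?_)
  show ρ (φ (x i t)) = _
  rw [h]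

/-- The weights of the short pair. -/
noncomputable def sp (W Y : F) : End ℂ V := p ρ ψ 9 W * p ρ ψ 8 Y

/-- The part of a weight of the short pair trivial on `3 a + 2 b`. -/
noncomputable def rest (W Y : F) : ℕ := ∑ B : F, rnk (w4 ρ ψ 0 B W Y)

variable (h3 : (3 : F) = 0)
include h3

theorem sp_idem (W Y : F) : IsIdempotentElem (sp ρ ψ W Y) :=
  (p_idem ρ ψ 9 W).mul_of_commute (p_nine_eight ρ ψ h3 W Y) (p_idem ρ ψ 8 Y)

theorem six_comm_w4 (B W Y u : F) : Commute (ρ (x 6 u)) (w4 ρ ψ 0 B W Y) := by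
  have h := six_w4 ρ ψ h3 0 B W Y u
  rwa [zero_mul, add_zero] at h

theorem w4_six_comm (B W Y A : F) : Commute (w4 ρ ψ 0 B W Y) (p ρ ψ 6 A) :=
  commute_p ρ ψ 6 A _ fun u => (six_comm_w4 ρ ψ h3 B W Y u).symm

theorem w4_six_idem (B W Y A : F) : IsIdempotentElem (w4 ρ ψ 0 B W Y * p ρ ψ 6 A) :=
  (w4_idem ρ ψ h3 _ _ _ _).mul_of_commute (w4_six_comm ρ ψ h3 B W Y A) (p_idem ρ ψ 6 A)

/-- The element of `a` shifts the weights of `b`. -/
theorem rnk_six_shift (B Y A t : F) :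
    rnk (w4 ρ ψ 0 B 0 Y * p ρ ψ 6 (A + (t ^ 3 * B - t * Y))) =
      rnk (w4 ρ ψ 0 B 0 Y * p ρ ψ 6 A) := by
  refine rnk_semiconj ρ (g := x 7 t) ?_ (w4_six_idem ρ ψ h3 _ _ _ _) (w4_six_idem ρ ψ h3 _ _ _ _)
  rw [(w4_six_comm ρ ψ h3 B 0 Y _).eq, (w4_six_comm ρ ψ h3 B 0 Y A).eq]
  refine semiconj_shear ρ ψ _ 6
    (fun u => x 8 (-(t * u)) * (x 9 (t ^ 2 * u) * (x 10 (t ^ 3 * u) * x 11 (t ^ 3 * u ^ 2)))) _ _
    (fun u => conj_seven_six t u) (fun u => ?_) ?_ A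
  · simp only [map_mul ρ, mul_assoc, eleven_absorb ρ ψ h3, ten_absorb ρ ψ h3, nine_absorb ρ ψ h3,
      eight_absorb ρ ψ h3, mul_smul_comm, smul_smul, ← AddChar.map_add_eq_mul]
    congr 2
    ring
  · have h := seven_w4 ρ ψ h3 0 B 0 Y t
    rwa [mul_zero, add_zero] at h

variable (hψ : ψ ≠ 0)
include hψ

theorem rnk_six_sum (B W Y : F) :
    ∑ A : F, rnk (w4 ρ ψ 0 B W Y * p ρ ψ 6 A) = rnk (w4 ρ ψ 0 B W Y) :=
  sum_rnk ρ ψ hψ 6 (w4_idem ρ ψ h3 _ _ _ _) (w4_six_comm ρ ψ h3 B W Y)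

theorem rnk_sp (W Y : F) {m : ℕ} (hm : ∀ L : F, L ≠ 0 → rnk (w4 ρ ψ L 0 W Y) = m) :
    rnk (sp ρ ψ W Y) = (Fintype.card F - 1) * (Fintype.card F * m) + rest ρ ψ W Y := by
  classical
  rw [← sum_rnk ρ ψ hψ 11 (sp_idem ρ ψ h3 W Y) fun L =>
    (pp_comm ρ ψ 9 11 (by decide +kernel) W L).mul_left (pp_comm ρ ψ 8 11 (by decide +kernel) Y L)]
  have e : ∀ L, sp ρ ψ W Y * p ρ ψ 11 L = v3 ρ ψ L W Y := fun L => by
    rw [sp, v3, mul_assoc, (pp_comm ρ ψ 8 11 (by decide +kernel) Y L).eq, ← mul_assoc,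
      (pp_comm ρ ψ 9 11 (by decide +kernel) W L).eq]
  simp only [e]
  rw [← Finset.add_sum_erase _ _ (Finset.mem_univ (0 : F)), add_comm,
    Finset.sum_congr rfl (g := fun _ => Fintype.card F * m) fun L hL => by
      rw [rnk_v3_top ρ ψ h3 hψ (Finset.mem_erase.1 hL).1, hm L (Finset.mem_erase.1 hL).1],
    Finset.sum_const, Finset.card_erase_of_mem (Finset.mem_univ _), Finset.card_univ, smul_eq_mul,
    rnk_v3_split ρ ψ h3 hψ, rest]

omit hψ in
theorem cube_surjective (B : F) (hB : B ≠ 0) (A : F) : ∃ t : F, t ^ 3 * B = A := by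
  have hinj : Function.Injective fun t : F => t ^ 3 * B := by
    intro s t h
    have h' : s ^ 3 = t ^ 3 := mul_right_cancel₀ hB h
    have : (s - t) ^ 3 = 0 := by linear_combination h' + (s * t ^ 2 - s ^ 2 * t) * h3
    exact sub_eq_zero.1 (pow_eq_zero_iff three_ne_zero |>.1 this)
  exact (Finite.injective_iff_surjective.1 hinj) A

/-- The weights of `a + b`, `3 a + b` trivial on `2 a + b` and `3 a + 2 b`. -/
theorem rest_dichotomy (hq : 9 ≤ Fintype.card F) :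
    Fintype.card F + 3 ≤ rest ρ ψ 0 1 ∨ ∃ k, (∀ A, rnk (w4 ρ ψ 0 0 0 1 * p ρ ψ 6 A) = k) ∧
      rest ρ ψ 0 1 = Fintype.card F * k ∧ ∀ B, B ≠ 0 → rnk (w4 ρ ψ 0 B 0 1) = 0 := by
  classical
  set q := Fintype.card F with hqdef
  by_cases hB : ∀ B : F, B ≠ 0 → rnk (w4 ρ ψ 0 B 0 1) = 0
  · refine Or.inr ⟨rnk (w4 ρ ψ 0 0 0 1 * p ρ ψ 6 0), ?_, ?_, hB⟩
    · intro A
      have h := rnk_six_shift ρ ψ h3 0 1 0 (-A)
      simpa using h
    · rw [rest, Finset.sum_eq_single (0 : F) (fun B _ h => hB B h) (by simp),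
        ← rnk_six_sum ρ ψ h3 hψ, Finset.sum_congr rfl fun A _ => ?_, Finset.sum_const,
        Finset.card_univ, smul_eq_mul]
      have h := rnk_six_shift ρ ψ h3 0 1 0 (-A)
      simpa using h
  · left
    push Not at hB
    obtain ⟨B, hB0, hB⟩ := hB
    obtain ⟨A, hA⟩ : ∃ A, rnk (w4 ρ ψ 0 B 0 1 * p ρ ψ 6 A) ≠ 0 := by
      by_contra hc
      push Not at hc
      exact hB (by rw [← rnk_six_sum ρ ψ h3 hψ]; exact Finset.sum_eq_zero fun A _ => hc A)
    -- the image of `t ↦ t³ B - t`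
    set f : F → F := fun t => A + (t ^ 3 * B - t * 1) with hf
    have hfib : ∀ a ∈ Finset.univ.image f, (Finset.univ.filter fun t => f t = a).card ≤ 3 := by
      intro a ha
      obtain ⟨t₀, -, rfl⟩ := Finset.mem_image.1 ha
      have hroot : ∀ t, f t = f t₀ → t = t₀ ∨ B * (t - t₀) ^ 2 = 1 := fun t ht => by
        simp only [hf] at ht
        have : (t - t₀) * (B * (t - t₀) ^ 2 - 1) = 0 := by
          linear_combination ht + B * (t * t₀ ^ 2 - t ^ 2 * t₀) * h3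
        rcases mul_eq_zero.1 this with h | h
        · exact Or.inl (sub_eq_zero.1 h)
        · exact Or.inr (sub_eq_zero.1 h)
      by_cases hs : ∃ s, B * s ^ 2 = 1
      · obtain ⟨s, hs⟩ := hs
        refine le_trans (Finset.card_le_card (t := {t₀, t₀ + s, t₀ - s}) fun t ht => ?_)
          Finset.card_le_three
        simp only [Finset.mem_filter, Finset.mem_univ, true_and] at ht
        rcases hroot t ht with h | h
        · simp [h]
        · have : B * ((t - t₀ - s) * (t - t₀ + s)) = 0 := by linear_combination h - hs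
          rcases mul_eq_zero.1 ((mul_eq_zero.1 this).resolve_left hB0) with h | h
          · simp [show t = t₀ + s by linear_combination h]
          · simp [show t = t₀ - s by linear_combination h]
      · refine le_trans (Finset.card_le_card (t := {t₀}) fun t ht => ?_) (by simp)
        simp only [Finset.mem_filter, Finset.mem_univ, true_and] at ht
        rcases hroot t ht with h | h
        · simp [h]
        · exact absurd ⟨_, h⟩ hs
    have himg := Finset.card_le_mul_card_image (f := f) (Finset.univ : Finset F) 3 hfib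
    rw [Finset.card_univ, ← hqdef] at himg
    have hone : (Finset.univ.image f).card ≤ rnk (w4 ρ ψ 0 B 0 1) := by
      rw [← rnk_six_sum ρ ψ h3 hψ, Finset.card_eq_sum_ones]
      refine le_trans (Finset.sum_le_sum fun a ha => ?_) (Finset.sum_le_sum_of_subset
        (Finset.subset_univ _))
      obtain ⟨t, -, rfl⟩ := Finset.mem_image.1 ha
      simp only [hf, rnk_six_shift ρ ψ h3 B 1 A t]
      omega
    -- the square classes
    set g : F → F := fun l => B * l ^ 2 with hg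
    set S : Finset F := (Finset.univ.erase 0).image g with hS
    have hsq : Finset.card (Finset.univ.erase (0 : F)) ≤ 2 * S.card := by
      refine Finset.card_le_mul_card_image _ 2 fun b hb => ?_
      obtain ⟨l₀, -, rfl⟩ := Finset.mem_image.1 hb
      refine le_trans (Finset.card_le_card (t := {l₀, -l₀}) fun l hl => ?_) Finset.card_le_two
      simp only [Finset.mem_filter, hg] at hl
      rcases sq_eq_sq_iff_eq_or_eq_neg.1 (mul_left_cancel₀ hB0 hl.2) with h | h <;> simp [h]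
    rw [Finset.card_erase_of_mem (Finset.mem_univ _), Finset.card_univ, ← hqdef] at hsq
    have hval : ∀ b ∈ S, q ≤ 3 * rnk (w4 ρ ψ 0 b 0 1) := by
      intro b hb
      obtain ⟨l, hl, rfl⟩ := Finset.mem_image.1 hb
      have hl0 := (Finset.mem_erase.1 hl).1
      have h := rnk_tor ρ ψ h3 (Units.mk0 l hl0) (Units.mk0 l hl0) 0 B 0 1
      simp only [Units.val_mk0, zero_mul, one_mul, div_self hl0,
        show l ^ 3 / l = l ^ 2 by field_simp] at h
      simp only [hg, h]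
      omega
    have h1 : S.card * q ≤ 3 * rest ρ ψ 0 1 := by
      calc S.card * q = ∑ _b ∈ S, q := by rw [Finset.sum_const, smul_eq_mul]
        _ ≤ ∑ b ∈ S, 3 * rnk (w4 ρ ψ 0 b 0 1) := Finset.sum_le_sum hval
        _ ≤ ∑ b : F, 3 * rnk (w4 ρ ψ 0 b 0 1) :=
            Finset.sum_le_sum_of_subset (Finset.subset_univ _)
        _ = _ := by rw [rest, Finset.mul_sum]
    have h2 : (q - 1) * q ≤ 2 * (S.card * q) := by
      rw [← mul_assoc]; exact Nat.mul_le_mul_right q hsq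
    have h4 : 8 * q ≤ (q - 1) * q := Nat.mul_le_mul_right q (by omega)
    omega

theorem fixed_lower {k : ℕ} (hk1 : k = 1) (hk : ∀ A, rnk (w4 ρ ψ 0 0 0 1 * p ρ ψ 6 A) = k)
    (hd : (dd ρ ψ : ℤ) = (Fintype.card F : ℤ) ^ 2 - 1 + m0 ρ ψ)
    (hB : ∀ B, B ≠ 0 → rnk (w4 ρ ψ 0 B 0 1) = 0)
    (hx : rest ρ ψ 1 0 = Fintype.card F) (hq : 9 ≤ Fintype.card F) :
    2 * (Fintype.card F : ℤ) ^ 2 - Fintype.card F - 1 ≤ (rnk (sp ρ ψ 0 0) : ℤ) := by
  classical
  set q := Fintype.card F with hqdef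
  have push : ∀ {v : V} (i : Fin 12) (A : F), p ρ ψ i (A * (eA i : F)) v = v →
      p ρ ψ (sA i) A (ρ nA v) = ρ nA v := fun {v} i A h => by
    rw [← Module.End.mul_apply, ← (semiconj_nA ρ ψ i A).eq, Module.End.mul_apply, h]
  have nA_ne : ∀ {v : V}, v ≠ 0 → ρ nA v ≠ 0 := fun {v} hv h0 => hv (by
    have := congrArg (ρ nA⁻¹) h0
    rwa [← Module.End.mul_apply, ← map_mul, inv_mul_cancel, map_one, Module.End.one_apply,
      map_zero] at this)
  have comps : ∀ {v : V} {B W Y A : F}, (w4 ρ ψ 0 B W Y * p ρ ψ 6 A) v = v →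
      p ρ ψ 11 0 v = v ∧ p ρ ψ 10 B v = v ∧ p ρ ψ 9 W v = v ∧ p ρ ψ 8 Y v = v ∧
        p ρ ψ 6 A v = v := by
    intro v B W Y A h
    have h4 := fix_of_mul (w4_idem ρ ψ h3 0 B W Y) h
    have h3' := fix_of_mul (w3_idem ρ ψ 0 B W) h4
    have h2 := fix_of_mul (pr_idem ρ ψ 0 B) h3'
    exact ⟨fix_of_mul (p_idem ρ ψ 11 0) h2,
      fix_of_mul' (p_idem ρ ψ 10 B) (pp_comm ρ ψ 11 10 (by decide +kernel) 0 B) h2,
      fix_of_mul' (p_idem ρ ψ 9 W) (pr_nine_comm ρ ψ 0 B W) h3',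
      fix_of_mul' (p_idem ρ ψ 8 Y) (w3_eight_comm ρ ψ h3 0 B W Y) h4,
      fix_of_mul' (p_idem ρ ψ 6 A) (w4_six_comm ρ ψ h3 B W Y A) h⟩
  have asm : ∀ {v : V} {B W Y : F}, p ρ ψ 11 0 v = v → p ρ ψ 10 B v = v → p ρ ψ 9 W v = v →
      p ρ ψ 8 Y v = v → w4 ρ ψ 0 B W Y v = v := by
    intro v B W Y h11 h10 h9 h8
    simp only [w4, w3, pr, Module.End.mul_apply, h8, h9, h10, h11]
  -- each weight `(0, B, 1, 0)` occurs once
  have hone : ∀ B : F, rnk (w4 ρ ψ 0 B 1 0) = 1 := by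
    have hpos : ∀ B : F, 1 ≤ rnk (w4 ρ ψ 0 B 1 0) := by
      intro A
      obtain ⟨v, hv0, hv⟩ := exists_fix (w4_six_idem ρ ψ h3 0 0 1 (A * (eA 6 : F)))
        (by rw [hk, hk1]; exact one_ne_zero)
      obtain ⟨c11, c10, c9, c8, c6⟩ := comps hv
      refine Nat.one_le_iff_ne_zero.2 (rnk_ne_zero (nA_ne hv0) (asm ?_ ?_ ?_ ?_))
      · exact push 11 0 (by rwa [zero_mul])
      · exact push 6 A c6
      · exact push 8 1 (by rwa [one_mul, show ((eA 8 : ℤ) : F) = 1 by simp [eA]])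
      · exact push 9 0 (by rwa [zero_mul])
    intro B
    by_contra hne
    have hlt : ∑ _B : F, 1 < ∑ B : F, rnk (w4 ρ ψ 0 B 1 0) :=
      Finset.sum_lt_sum (fun B _ => hpos B) ⟨B, Finset.mem_univ _, by have := hpos B; omega⟩
    rw [Finset.sum_const, Finset.card_univ, smul_eq_mul, mul_one] at hlt
    exact absurd hx (ne_of_gt hlt)
  have hW : ∀ W : F, W ≠ 0 → ∀ B Y, rnk (w4 ρ ψ 0 B W Y) = 1 := by
    intro W hW B Y
    have h1 := rnk_semiconj ρ (seven_w4 ρ ψ h3 0 B W 0 (Y / W)) (w4_idem ρ ψ h3 _ _ _ _)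
      (w4_idem ρ ψ h3 _ _ _ _)
    rw [zero_add, div_mul_cancel₀ _ hW] at h1
    have h2 := rnk_tor ρ ψ h3 (Units.mk0 W hW) 1 0 (B / W ^ 3) 1 0
    simp only [Units.val_mk0, Units.val_one, zero_mul, one_mul, div_one,
      div_mul_cancel₀ B (pow_ne_zero 3 hW)] at h2
    rw [h1, h2, hone]
  have hY : ∀ Y : F, Y ≠ 0 → ∀ B, B ≠ 0 → rnk (w4 ρ ψ 0 B 0 Y) = 0 := by
    intro Y hY B hB0
    have h2 := rnk_tor ρ ψ h3 1 (Units.mk0 Y hY) 0 (B * Y) 0 1
    simp only [Units.val_mk0, Units.val_one, zero_mul, one_mul, one_pow, div_one,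
      show B * Y * (1 / Y) = B by field_simp] at h2
    rw [h2]
    exact hB _ (mul_ne_zero hB0 hY)
  -- the weight `(0, 1, 0, 0)`
  set D0 := rnk (w4 ρ ψ 0 1 0 0) with hD0def
  have hdsum : dd ρ ψ = (q - 1) * q + D0 := by
    rw [← rnk_pr ρ ψ (L := (0 : F)) (B := 1) (Or.inr one_ne_zero), rnk_pr_split ρ ψ h3 hψ,
      ← Finset.add_sum_erase _ _ (Finset.mem_univ (0 : F)), add_comm,
      Finset.sum_congr rfl fun W hW' => Finset.sum_congr rfl fun Y _ =>
        hW W (Finset.mem_erase.1 hW').1 1 Y,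
      Finset.sum_eq_single (0 : F) (fun Y _ h => hY Y h 1 one_ne_zero) (by simp)]
    simp [Finset.card_erase_of_mem, ← hqdef, ← hD0def]
  set k0 := rnk (w4 ρ ψ 0 1 0 0 * p ρ ψ 6 0) with hk0def
  have hk0 : ∀ A, rnk (w4 ρ ψ 0 1 0 0 * p ρ ψ 6 A) = k0 := fun A => by
    obtain ⟨t, ht⟩ := cube_surjective h3 (1 : F) one_ne_zero A
    rw [hk0def, ← rnk_six_shift ρ ψ h3 1 0 0 t, mul_zero, sub_zero, ht, zero_add]
  have hD0 : D0 = q * k0 := by
    rw [hD0def, ← rnk_six_sum ρ ψ h3 hψ, Finset.sum_congr rfl fun A _ => hk0 A, Finset.sum_const,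
      Finset.card_univ, smul_eq_mul]
  have hqZ : (9 : ℤ) ≤ q := by exact_mod_cast hq
  have hdZ : (dd ρ ψ : ℤ) = ((q : ℤ) - 1) * q + q * k0 := by
    rw [hdsum, hD0]
    push_cast [Nat.cast_sub (show 1 ≤ q by omega)]
    ring
  have hk0pos : 1 ≤ k0 := by
    by_contra h0
    have : (k0 : ℤ) = 0 := by exact_mod_cast (by omega : k0 = 0)
    rw [this] at hdZ
    have hm : (0 : ℤ) ≤ m0 ρ ψ := by positivity
    nlinarith
  have hm0 : (1 : ℤ) ≤ m0 ρ ψ := by
    have : (1 : ℤ) ≤ k0 := by exact_mod_cast hk0pos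
    nlinarith
  -- the weight zero
  have hzero : q - 1 ≤ rnk (w4 ρ ψ (0 : F) 0 0 0) := by
    obtain ⟨v, hv0, hv⟩ := exists_fix (w4_six_idem ρ ψ h3 1 0 0 0)
      (by rw [← hk0def]; omega)
    obtain ⟨c11, c10, c9, c8, c6⟩ := comps hv
    have u6 : p ρ ψ 6 (-1) (ρ nA v) = ρ nA v :=
      push 10 (-1) (by rwa [show (-1 : F) * ((eA 10 : ℤ) : F) = 1 by simp [eA]])
    have u4 : w4 ρ ψ 0 0 0 0 (ρ nA v) = ρ nA v :=
      asm (push 11 0 (by rwa [zero_mul])) (push 6 0 (by rwa [zero_mul]))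
        (push 8 0 (by rwa [zero_mul])) (push 9 0 (by rwa [zero_mul]))
    have h1 : rnk (w4 ρ ψ 0 0 0 0 * p ρ ψ 6 (-1)) ≠ 0 :=
      rnk_ne_zero (nA_ne hv0) (by rw [Module.End.mul_apply, u6, u4])
    have hall : ∀ a : F, a ≠ 0 → 1 ≤ rnk (w4 ρ ψ 0 0 0 0 * p ρ ψ 6 a) := by
      intro a ha
      set ν := (Units.mk0 (-a) (neg_ne_zero.2 ha))⁻¹ with hν
      have h := semiconj_tor ρ ψ ν ν 6 (-1)
      have e : (-1 : F) * (wgt ν ν 6 : F) = a := by
        simp [hν, wgt, expA, expB]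
        field_simp
      rw [e] at h
      have hw := tor_w4 ρ ψ h3 ν ν 0 0 0 0
      simp only [zero_mul] at hw
      rw [rnk_semiconj ρ (hw.mul_right h) (w4_six_idem ρ ψ h3 _ _ _ _)
        (w4_six_idem ρ ψ h3 _ _ _ _)]
      omega
    rw [← rnk_six_sum ρ ψ h3 hψ]
    calc q - 1 = ∑ _a ∈ (Finset.univ : Finset F).erase 0, 1 := by
          simp [Finset.card_erase_of_mem, ← hqdef]
      _ ≤ ∑ a ∈ (Finset.univ : Finset F).erase 0, rnk (w4 ρ ψ 0 0 0 0 * p ρ ψ 6 a) :=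
          Finset.sum_le_sum fun a ha => hall a (Finset.mem_erase.1 ha).1
      _ ≤ _ := Finset.sum_le_sum_of_subset (Finset.subset_univ _)
  have hrest : (q - 1) * q + (q - 1) ≤ rest ρ ψ 0 0 := by
    rw [rest, ← Finset.add_sum_erase _ _ (Finset.mem_univ (0 : F)), add_comm]
    refine add_le_add hzero ?_
    calc (q - 1) * q = ∑ _B ∈ (Finset.univ : Finset F).erase 0, q := by
          simp [Finset.card_erase_of_mem, ← hqdef]
      _ ≤ _ := Finset.sum_le_sum fun B hB' => by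
          have hB0 := (Finset.mem_erase.1 hB').1
          have h := rnk_tor ρ ψ h3 1 (Units.mk0 B⁻¹ (inv_ne_zero hB0)) 0 1 0 0
          simp only [Units.val_mk0, Units.val_one, zero_mul, one_mul, one_pow, one_div,
            inv_inv] at h
          rw [h, ← hD0def, hD0]
          exact Nat.le_mul_of_pos_right _ hk0pos
  rw [rnk_sp ρ ψ h3 hψ 0 0 fun L hL => rnk_w4_m0 ρ ψ h3 hL 0, ← hqdef]
  have hrestZ : ((q : ℤ) - 1) * q + ((q : ℤ) - 1) ≤ rest ρ ψ 0 0 := by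
    have := Int.ofNat_le.2 hrest
    push_cast [Nat.cast_sub (show 1 ≤ q by omega)] at this
    exact this
  push_cast [Nat.cast_sub (show 1 ≤ q by omega)]
  have hmul : 0 ≤ ((q : ℤ) - 1) * q * ((m0 ρ ψ : ℤ) - 1) :=
    mul_nonneg (mul_nonneg (by omega) (by omega)) (by omega)
  linarith

/-- The degree is at least `q⁴ + q² - q - 1`. -/
theorem three_almost (hq : 9 ≤ Fintype.card F) (hinj : ∀ g, ρ g = 1 → g = 1)
    (hφ : Function.Injective φ) (h10 : ∀ t, φ (x 10 t) = x 8 t) (h11 : ∀ t, φ (x 11 t) = x 9 t) :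
    (Fintype.card F : ℤ) ^ 4 + (Fintype.card F : ℤ) ^ 2 - Fintype.card F - 1 ≤ (finrank ℂ V : ℤ) := by
  classical
  set q := Fintype.card F with hqdef
  have hbig : q ^ 4 + q ^ 2 + 1 ≤ finrank ℂ V →
      (q : ℤ) ^ 4 + (q : ℤ) ^ 2 - q - 1 ≤ (finrank ℂ V : ℤ) := fun h => by
    have : ((q ^ 4 + q ^ 2 + 1 : ℕ) : ℤ) ≤ (finrank ℂ V : ℤ) := by exact_mod_cast h
    push_cast at this
    omega
  rcases three_cases ρ ψ h3 hψ (by omega) hinj with h | ⟨hm1, hd, -⟩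
  · exact hbig h
  have hinj' : ∀ g, pull ρ φ g = 1 → g = 1 := fun g hg => hφ ((hinj _ hg).trans (map_one φ).symm)
  have hs : ∀ W Y : F, rnk (pr (pull ρ φ) ψ W Y) = rnk (sp ρ ψ W Y) := fun W Y => by
    rw [pr, sp, p_pull ρ ψ φ 11 9 h11, p_pull ρ ψ φ 10 8 h10]
  rcases three_cases (pull ρ φ) ψ h3 hψ (by omega) hinj' with h | ⟨-, hd', -⟩
  · exact hbig h
  have hn := finrank_eq (pull ρ φ) ψ hψ
  rw [ee, hs] at hn
  have hq9 : (9 : ℤ) ≤ q := by exact_mod_cast hq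
  have hxY := (rnk_pr (pull ρ φ) ψ (L := (0 : F)) (B := 1) (Or.inr one_ne_zero)).symm.trans (hs 0 1)
  have hxW := (rnk_pr (pull ρ φ) ψ (L := (1 : F)) (B := 0) (Or.inl one_ne_zero)).symm.trans (hs 1 0)
  rw [rnk_sp ρ ψ h3 hψ 0 1 fun L hL =>
    (rnk_w4_m1 ρ ψ h3 hψ hL 0 (Or.inr one_ne_zero)).trans hm1, mul_one] at hxY
  rw [rnk_sp ρ ψ h3 hψ 1 0 fun L hL =>
    (rnk_w4_m1 ρ ψ h3 hψ hL 0 (Or.inl one_ne_zero)).trans hm1, mul_one] at hxW
  rw [← hqdef] at hxY hxW hn hd'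
  have hxYZ : (dd (pull ρ φ) ψ : ℤ) = ((q : ℤ) - 1) * q + rest ρ ψ 0 1 := by
    rw [hxY]
    push_cast [Nat.cast_sub (show 1 ≤ q by omega)]
    ring
  have he : (0 : ℤ) ≤ rnk (sp ρ ψ (0 : F) 0) := by positivity
  have large : q + 3 ≤ rest ρ ψ 0 1 →
      (q : ℤ) ^ 4 + (q : ℤ) ^ 2 - q - 1 ≤ (finrank ℂ V : ℤ) := fun h => by
    have h' : (q : ℤ) + 3 ≤ rest ρ ψ 0 1 := by exact_mod_cast h
    have h1 : ((q : ℤ) ^ 2 - 1) * ((q : ℤ) ^ 2 + 3) ≤ ((q : ℤ) ^ 2 - 1) * dd (pull ρ φ) ψ :=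
      mul_le_mul_of_nonneg_left (by rw [hxYZ]; nlinarith) (by nlinarith)
    nlinarith
  rcases rest_dichotomy ρ ψ h3 hψ (by omega) with h | ⟨k, hk, hkr, hB⟩
  · exact large h
  rw [← hqdef] at hkr
  rcases (by omega : k = 0 ∨ k = 1 ∨ 2 ≤ k) with hk' | hk' | hk'
  · rw [hk', mul_zero] at hkr
    rw [hxYZ, hkr] at hd'
    have : (0 : ℤ) ≤ m0 (pull ρ φ) ψ := by positivity
    push_cast at hd'
    nlinarith
  · rw [hk', mul_one] at hkr
    have hx : rest ρ ψ 1 0 = q := by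
      have := hxY.symm.trans hxW
      rw [hkr] at this
      omega
    have hlow := fixed_lower ρ ψ h3 hψ hk' hk hd hB hx hq
    rw [hkr] at hxYZ
    rw [hn, hxYZ]
    nlinarith
  · refine large ?_
    rw [hkr]
    have := Nat.mul_le_mul_left q hk'
    omega

end CfsgLib.GTwoDegree
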