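import Cfsg.Agent.GTwoDegree.OneModThree
import Cfsg.Agent.GTwoDegree.ShortPair
import Cfsg.Agent.GTwoDegree.Arith
import Cfsg.Agent.ExcIsogeny.DataG2
import Cfsg.Agent.Characters.Integrality
import Cfsg.Agent.S1055
import Cfsg.Agent.S1059

/-!
# Lower bounds for the degrees of the non-linear irreducible representations of `G₂(q)`
-/

set_option autoImplicit false

namespace CfsgLib.GTwoDegree

open Module Cfsg.Lie CfsgLib.Chevalley

theorem rho_facts : CfsgLib.ExcIsogeny.isoG2.rho (rt 10) = rt 8 ∧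
    CfsgLib.ExcIsogeny.isoG2.rho (rt 11) = rt 9 ∧ CfsgLib.ExcIsogeny.isoG2.e (rt 10) = 1 ∧
    CfsgLib.ExcIsogeny.isoG2.e (rt 11) = 1 := by decide +kernel

/-- The exceptional isogeny carries the long pair to the short pair. -/
theorem exists_isogeny {F : Type*} [Field F] [Fintype F] [CharP F 3] :
    ∃ φ : G2 F →* G2 F, Function.Injective φ ∧ (∀ t, φ (x 10 t) = x 8 t) ∧
      ∀ t, φ (x 11 t) = x 9 t := by
  have h := CfsgLib.ExcIsogeny.isoG2_ok
  have : CharP F CfsgLib.ExcIsogeny.isoG2.p := ‹CharP F 3›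
  have : Fact (Nat.Prime 3) := ⟨Nat.prime_three⟩
  have hperf : ∀ x : F, ∃ y : F, y ^ CfsgLib.ExcIsogeny.isoG2.p = x :=
    (Finite.injective_iff_surjective.1 (frobenius_inj F 3) : Function.Surjective (frobenius F 3))
  refine ⟨CfsgLib.ExcIsogeny.alpha h,
    (CfsgLib.ExcIsogeny.alpha_bijective h hperf Nat.prime_three).1, fun t => ?_, fun t => ?_⟩
  · refine (CfsgLib.ExcIsogeny.alpha_X h (rt 10) t).trans (Subtype.ext ?_)
    rw [coe_x, rho_facts.1, rho_facts.2.2.1, pow_one]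
  · refine (CfsgLib.ExcIsogeny.alpha_X h (rt 11) t).trans (Subtype.ext ?_)
    rw [coe_x, rho_facts.2.1, rho_facts.2.2.2, pow_one]

/-- The bounds. -/
theorem degree_bounds {F : Type*} [Field F] [Fintype F] {V : Type*} [AddCommGroup V] [Module ℂ V]
    [FiniteDimensional ℂ V] (ρ : Representation ℂ (G2 F) V) (hρ : ρ.IsIrreducible)
    (hk : 2 ≤ finrank ℂ V) :
    (Fintype.card F % 3 = 1 → 4 < Fintype.card F → Fintype.card F ^ 3 + 1 ≤ finrank ℂ V) ∧
    (Fintype.card F % 3 = 2 → 2 < Fintype.card F → Fintype.card F ^ 3 - 1 ≤ finrank ℂ V) ∧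
    (Fintype.card F % 3 = 0 → 3 < Fintype.card F →
      Fintype.card F ^ 4 + Fintype.card F ^ 2 + 1 ≤ finrank ℂ V) := by
  classical
  have hinj : 2 < Fintype.card F → ∀ g, ρ g = 1 → g = 1 := by
    intro hq g hg
    obtain ⟨a, -, ha⟩ := Finset.exists_mem_notMem_of_card_lt_card
      (s := ({0, 1} : Finset F)) (t := Finset.univ)
      (lt_of_le_of_lt Finset.card_le_two (by rw [Finset.card_univ]; omega))
    simp only [Finset.mem_insert, Finset.mem_singleton, not_or] at ha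
    have hs := (Cfsg.Agent.S1055.result (F := F) ⟨a, ha⟩).1
    rcases hs.eq_bot_or_eq_top_of_normal (MonoidHom.ker ρ) inferInstance with hb | ht
    · have h1 : g ∈ MonoidHom.ker ρ := hg
      rwa [hb, Subgroup.mem_bot] at h1
    · obtain ⟨g', hg'⟩ := CfsgLib.RepBounds.exists_ne_one ρ hρ hk
      exact absurd (show g' ∈ MonoidHom.ker ρ by rw [ht]; trivial) hg'
  obtain ⟨ψ, hψ⟩ : ∃ ψ : AddChar F ℂ, ψ ≠ 0 := by
    have : 1 < Fintype.card (AddChar F ℂ) := by rw [AddChar.card_eq]; exact Fintype.one_lt_card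
    exact Fintype.exists_ne_of_one_lt_card this 0
  obtain ⟨p, hp⟩ := CharP.exists F
  obtain ⟨f, hpr, hcard⟩ := FiniteField.card F p
  have hne : Fintype.card F % 3 ≠ 0 → (3 : F) ≠ 0 := fun h h3 => h (by
    have : p ∣ 3 := (CharP.cast_eq_zero_iff F p 3).1 (by exact_mod_cast h3)
    rcases (Nat.dvd_prime Nat.prime_three).1 this with rfl | rfl
    · exact absurd hpr Nat.not_prime_one
    · rw [hcard]
      exact Nat.mod_eq_zero_of_dvd (dvd_pow_self 3 f.pos.ne'))
  refine ⟨fun h1 hq => bound_one ρ ψ hψ h1 (by omega) (hne (by omega)) (hinj (by omega)),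
    fun h2 hq => bound_two ρ ψ hψ (hne (by omega)) (by omega) (hinj hq), fun h0 hq => ?_⟩
  have hp3 : p = 3 :=
    ((Nat.prime_dvd_prime_iff_eq Nat.prime_three hpr).1
      (Nat.prime_three.dvd_of_dvd_pow (hcard ▸ Nat.dvd_of_mod_eq_zero h0))).symm
  subst hp3
  have hq9 : 9 ≤ Fintype.card F := by
    rw [hcard] at hq ⊢
    rcases (by have := f.pos; omega : (f : ℕ) = 1 ∨ 2 ≤ (f : ℕ)) with hf | hf
    · rw [hf] at hq; omega
    · exact le_trans (by norm_num) (Nat.pow_le_pow_right (by norm_num : 0 < 3) hf)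
  obtain ⟨φ, hφ, h10, h11⟩ := exists_isogeny (F := F)
  have hlow := three_almost ρ ψ φ (by exact_mod_cast CharP.cast_eq_zero F 3) hψ hq9
    (hinj (by omega)) hφ h10 h11
  refine no_divisor hcard hq9 hlow ?_
  have := hρ
  rw [← Cfsg.Agent.S1059.result (F := F) rfl]
  exact Characters.finrank_dvd_card (ρ := ρ)

end CfsgLib.GTwoDegree
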