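import Cfsg.Agent.GTwoDegree.FixedSpace
import Mathlib.GroupTheory.Perm.Cycle.Type

/-!
# `q ≡ 1 (mod 3)`: the fixed space of the pair has dimension above `q`

Otherwise a torus element of order three centralizing the long root subgroups has one eigenvalue on
`q - 1` lines of that space, which a weight projector of the opposite pair maps injectively, and that
eigenvalue has multiplicity at most `(q + 2) / 3` in the weight space.
-/

set_option autoImplicit false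
set_option linter.unusedSectionVars false

namespace CfsgLib.GTwoDegree

open Module CfsgLib.RepBounds Cfsg.Lie

theorem long_facts : ∀ i : Fin 12, i = 0 ∨ i = 1 ∨ i = 5 ∨ i = 6 ∨ i = 10 ∨ i = 11 →
    expA i = 0 ∨ expA i = 3 ∨ expA i = -3 := by decide +kernel

theorem cycle_facts : ∀ i : Fin 12, sA (sB (sA (sB (sA (sB i))))) = i.rev := by decide +kernel

variable {F : Type*} [Field F]

/-- An element mapping every root to its negative. -/
def ww : G2 F := (nA * nB) * (nA * nB) * (nA * nB)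

theorem step_conj (i : Fin 12) (t : F) :
    (nA * nB) * x i t * (nA * nB)⁻¹ =
      x (sA (sB i)) (((eA (sB i) : ℤ) : F) * ((eB i : ℤ) : F) * t) := by
  have e : (nA * nB) * x i t * (nA * nB)⁻¹ = nA * (nB * x i t * nB⁻¹) * nA⁻¹ := by group
  rw [e, nB_conj, nA_conj, ← mul_assoc]

theorem ww_conj (i : Fin 12) :
    ∃ e : F, e ≠ 0 ∧ ∀ t, ww * x i t * ww⁻¹ = x i.rev (e * t) := by
  set g : Fin 12 → F := fun i => ((eA (sB i) : ℤ) : F) * ((eB i : ℤ) : F) with hg
  have g0 : ∀ i, g i ≠ 0 := fun i => mul_ne_zero (eA_ne_zero _) (eB_ne_zero _)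
  refine ⟨g (sA (sB (sA (sB i)))) * g (sA (sB i)) * g i,
    mul_ne_zero (mul_ne_zero (g0 _) (g0 _)) (g0 _), fun t => ?_⟩
  set N : G2 F := nA * nB
  have e : ww * x i t * ww⁻¹ = N * (N * (N * x i t * N⁻¹) * N⁻¹) * N⁻¹ := by
    rw [show (ww : G2 F) = N * N * N from rfl]; group
  rw [e, step_conj, step_conj, step_conj, ← cycle_facts i]
  congr 1
  simp only [hg]
  ring

variable [Fintype F] {V : Type*} [AddCommGroup V] [Module ℂ V] [FiniteDimensional ℂ V]
  (ρ : Representation ℂ (G2 F) V) (ψ : AddChar F ℂ)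

/-- The projector on the `δ⁻¹`-eigenspace of an operator of order three. -/
noncomputable def eigThree (δ : ℂ) (X : End ℂ V) : End ℂ V :=
  (3 : ℂ)⁻¹ • (1 + δ • X + (δ * δ) • (X * X))

theorem eigThree_idem {δ : ℂ} {X : End ℂ V} (hX : X * (X * X) = 1) (hδ : δ * (δ * δ) = 1) :
    IsIdempotentElem (eigThree δ X) := by
  obtain ⟨Y, hY⟩ : ∃ Y : End ℂ V, δ • X = Y := ⟨_, rfl⟩
  have hY3 : Y * (Y * Y) = 1 := by
    rw [← hY, smul_mul_smul_comm, smul_mul_smul_comm, hδ, hX, one_smul]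
  have e : (δ * δ) • (X * X) = Y * Y := by rw [← hY, smul_mul_smul_comm]
  rw [IsIdempotentElem, eigThree, e, hY, smul_mul_smul_comm]
  simp only [mul_add, add_mul, one_mul, mul_one, mul_assoc, hY3]
  module

theorem eigThree_fix {δ ζ : ℂ} {X e : End ℂ V} (h : X * e = ζ • e) (hd : δ * ζ = 1) :
    eigThree δ X * e = e := by
  have h2 : X * X * e = (ζ * ζ) • e := by rw [mul_assoc, h, mul_smul_comm, h, smul_smul]
  rw [eigThree, smul_mul_assoc, add_mul, add_mul, one_mul, smul_mul_assoc, smul_mul_assoc, h, h2,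
    smul_smul, smul_smul, show δ * δ * (ζ * ζ) = 1 by linear_combination (δ * ζ + 1) * hd, hd,
    one_smul]
  module

theorem eigThree_commute {δ : ℂ} {X e : End ℂ V} (h : Commute e X) : Commute e (eigThree δ X) :=
  ((((Commute.one_right e).add_right (h.smul_right δ)).add_right
    ((h.mul_right h).smul_right (δ * δ))).smul_right _)

variable (hψ : ψ ≠ 0)
include hψ

/-- The bound for `q ≡ 1 (mod 3)`. -/
theorem bound_one (hq : Fintype.card F % 3 = 1) (hq7 : 5 ≤ Fintype.card F) (h3 : (3 : F) ≠ 0)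
    (hinj : ∀ g, ρ g = 1 → g = 1) : Fintype.card F ^ 3 + 1 ≤ finrank ℂ V := by
  classical
  rcases coprime_cases ρ ψ hψ h3 hq7 hinj with h | ⟨hm, -, h1, hee, hn⟩
  · exact h
  by_contra hlt
  set q := Fintype.card F with hqdef
  have he : ee ρ ψ ≤ q := by
    have h2 : (finrank ℂ V : ℤ) ≤ (q : ℤ) ^ 3 := by exact_mod_cast (by omega : finrank ℂ V ≤ q ^ 3)
    have h3 : (ee ρ ψ : ℤ) ≤ (q : ℤ) := by nlinarith
    exact_mod_cast h3
  set r1 := rnk (e6 ρ ψ 1) with hr1def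
  have hr1 : r1 = 1 := by
    rcases (by omega : r1 = 1 ∨ 2 ≤ r1) with h | h
    · exact h
    · have := Nat.mul_le_mul_left (q - 1) h
      omega
  have hr0 : rnk (e6 ρ ψ 0) ≤ 1 := by
    rw [hr1, mul_one] at hee
    omega
  rw [hr1, mul_one] at hee
  have ra : ∀ a : F, a ≠ 0 → rnk (e6 ρ ψ a) = 1 := fun a ha => by
    rw [rnk_e6 ρ ψ ha, ← hr1def, hr1]
  obtain ⟨c, hc⟩ := exists_compress ρ ψ hr0
  -- the element of order three
  obtain ⟨ω, hω⟩ : ∃ ω : Fˣ, orderOf ω = 3 := by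
    have : Fact (Nat.Prime 3) := ⟨Nat.prime_three⟩
    refine exists_prime_orderOf_dvd_card 3 ?_
    rw [Fintype.card_units, ← hqdef]
    omega
  have hω3 : ω ^ 3 = 1 := by rw [← hω]; exact pow_orderOf_eq_one ω
  set z : G2 F := tor (ω ^ 2) 1 with hz
  have zlong : ∀ i : Fin 12, i = 0 ∨ i = 1 ∨ i = 5 ∨ i = 6 ∨ i = 10 ∨ i = 11 →
      ∀ t, Commute z (x i t) := fun i hi t => by
    have e : wgt (ω ^ 2) 1 i = 1 := by
      have hω6 : (ω ^ 2) ^ 3 = 1 := by rw [← pow_mul, show 2 * 3 = 3 * 2 by rfl, pow_mul, hω3, one_pow]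
      rcases long_facts i hi with h | h | h <;> simp [wgt, h, hω6]
    have h := tor_conj (ω ^ 2) 1 i t
    rw [e, Units.val_one, one_mul, ← hz] at h
    exact mul_inv_eq_iff_eq_mul.1 h
  have z3 : z * (z * z) = 1 := by
    rw [hz, tor_mul, tor_mul, one_mul, one_mul, ← pow_add, ← pow_add,
      show 2 + (2 + 2) = 3 * 2 by rfl, pow_mul, hω3, one_pow, tor_one]
  have zP : Commute (ρ z) (pr ρ ψ 0 0) := tor_comm_pr ρ ψ _ _
  have zE : ∀ a, Commute (ρ z) (e6 ρ ψ a) := fun a =>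
    zP.mul_right (commute_map_p ρ ψ 6 a z (zlong 6 (by simp)))
  -- the scalar of `z` and of the reflection
  have tore : ∀ (a : F) (ha : a ≠ 0), SemiconjBy (ρ (tor (Units.mk0 a ha)⁻¹ (Units.mk0 a ha)⁻¹))
      (e6 ρ ψ a) (e6 ρ ψ 1) := fun a ha => by
    have h := semiconj_tor ρ ψ (Units.mk0 a ha)⁻¹ (Units.mk0 a ha)⁻¹ 6 1
    have e : (1 : F) * (wgt (Units.mk0 a ha)⁻¹ (Units.mk0 a ha)⁻¹ 6 : F) = a := by
      simp [wgt, expA, expB]
      field_simp
    rw [e] at h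
    exact SemiconjBy.mul_right (tor_comm_pr ρ ψ _ _) h
  have transfer : ∀ (X : End ℂ V) (k : ℂ), (∀ l m, Commute (ρ (tor l m)) X) →
      e6 ρ ψ 1 * X * e6 ρ ψ 1 = k • e6 ρ ψ 1 →
      ∀ a, a ≠ 0 → e6 ρ ψ a * X * e6 ρ ψ a = k • e6 ρ ψ a := by
    intro X k hX h a ha
    set g := tor (Units.mk0 a ha)⁻¹ (Units.mk0 a ha)⁻¹ with hg
    have hs := ((tore a ha).mul_right (hX _ _)).mul_right (tore a ha)
    rw [h] at hs
    calc e6 ρ ψ a * X * e6 ρ ψ a = ρ g⁻¹ * (ρ g * (e6 ρ ψ a * X * e6 ρ ψ a)) := by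
          rw [← mul_assoc, map_inv_mul, one_mul]
      _ = ρ g⁻¹ * ((k • e6 ρ ψ 1) * ρ g) := by rw [hs.eq]
      _ = k • e6 ρ ψ a := by
          rw [smul_mul_assoc, ← (tore a ha).eq, mul_smul_comm, ← mul_assoc, map_inv_mul, one_mul]
  obtain ⟨ζ, hζ⟩ := exists_smul_of_rnk_le_one (e6_idem ρ ψ 1) (ra 1 one_ne_zero).le (ρ z)
  have zeig : ∀ a, a ≠ 0 → ρ z * e6 ρ ψ a = ζ • e6 ρ ψ a := fun a ha => by
    rw [← transfer (ρ z) ζ (fun l m => (tor_comm _ _ _ _).map ρ) hζ a ha, ← (zE a).eq, mul_assoc,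
      (e6_idem ρ ψ a).eq]
  have e1ne : e6 ρ ψ 1 ≠ 0 := fun h0 => by
    have h := ra 1 one_ne_zero
    rw [h0, rnk, LinearMap.range_zero, finrank_bot] at h
    omega
  have ζ3 : ζ * (ζ * ζ) = 1 := by
    refine smul_left_injective ℂ e1ne ?_
    have h := congrArg (fun X => X * e6 ρ ψ 1) (congrArg ρ z3)
    simp only [map_mul, map_one, one_mul, mul_assoc, zeig 1 one_ne_zero, mul_smul_comm,
      smul_smul] at h
    simp only [one_smul]
    exact h
  obtain ⟨κ, hκ⟩ := exists_smul_of_rnk_le_one (e6_idem ρ ψ 1) (ra 1 one_ne_zero).le (qq ρ ψ)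
  have hκa := transfer (qq ρ ψ) κ (tor_comm_qq ρ ψ) hκ
  -- the scalar is not zero
  have trE : ∀ a, LinearMap.trace ℂ V (e6 ρ ψ a * qq ρ ψ) =
      LinearMap.trace ℂ V (e6 ρ ψ a * qq ρ ψ * e6 ρ ψ a) := fun a => by
    rw [LinearMap.trace_mul_comm ℂ (e6 ρ ψ a * qq ρ ψ) (e6 ρ ψ a), ← mul_assoc,
      (e6_idem ρ ψ a).eq]
  have sumE : ∑ a : F, e6 ρ ψ a = pr ρ ψ 0 0 := by
    simp only [e6]
    rw [← Finset.mul_sum, sum_p ρ ψ hψ, mul_one]
  set r0 := rnk (e6 ρ ψ (0 : F)) with hr0def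
  have htr : ((q : ℂ) - 1) * κ + c * c * r0 = r0 := by
    have h : LinearMap.trace ℂ V (pr ρ ψ 0 0 * qq ρ ψ) = r0 := by
      rw [qq, ← mul_assoc, (pr_idem ρ ψ 0 0).eq, ← qq, ← trace_of_semiconj ρ (semiconj_qq ρ ψ),
        rnk_trace (e6_idem ρ ψ 0).eq, ← hr0def]
    rw [← sumE, Finset.sum_mul, map_sum, ← Finset.add_sum_erase _ _ (Finset.mem_univ (0 : F)),
      trE, qq_sq hc, map_smul, rnk_trace (e6_idem ρ ψ 0).eq,
      Finset.sum_congr rfl (g := fun _ => κ) fun a ha => ?_, Finset.sum_const,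
      Finset.card_erase_of_mem (Finset.mem_univ _), Finset.card_univ, nsmul_eq_mul,
      Nat.cast_sub (by omega : 1 ≤ q), Nat.cast_one, smul_eq_mul, ← hr0def] at h
    · linear_combination h
    · rw [trE, hκa a (Finset.mem_erase.1 ha).1, map_smul, rnk_trace (e6_idem ρ ψ a).eq,
        ra a (Finset.mem_erase.1 ha).1, Nat.cast_one, smul_eq_mul, mul_one]
  set σ := 1 - (q : ℂ) * c * κ with hσdef
  have hσ : σ ≠ 0 := by
    intro h
    rcases Nat.eq_zero_or_pos r0 with h0 | h0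
    · rw [hσdef, hc.zero (eq_zero_of_rnk h0)] at h
      simp at h
    · have hr01 : r0 = 1 := by omega
      have hlin := qq_lin hc
      rw [smul_eq_zero, or_iff_left (fun e => by
        rw [hr0def, e, rnk, LinearMap.range_zero, finrank_bot] at h0
        omega), ← hqdef] at hlin
      rw [hr01, Nat.cast_one, mul_one] at htr
      rw [hσdef] at h
      have hq1 : (q : ℂ) - 1 ≠ 0 := sub_ne_zero.2 (by exact_mod_cast (by omega : q ≠ 1))
      have k1 : ((q : ℂ) - 1) * (c - c * c) = ((q : ℂ) - 1) * 1 := by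
        linear_combination (-((q : ℂ) - 1)) * h + (-(q : ℂ) * c) * htr + c * hlin
      have k2 : c - c * c = 1 := mul_left_cancel₀ hq1 k1
      have k3 : c = (q : ℂ) + 1 := by linear_combination hlin + (q : ℂ) * k2
      have k4 : ((q * q + q + 1 : ℕ) : ℂ) = 0 := by
        rw [k3] at k2
        push_cast
        linear_combination -k2
      exact absurd (Nat.cast_eq_zero.1 k4) (by omega)
  -- the projector
  set T := p ρ ψ 1 0 * p ρ ψ 0 1 with hT
  have T_idem : IsIdempotentElem T :=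
    (p_idem ρ ψ 1 0).mul_of_commute (pp_comm ρ ψ 1 0 (by decide +kernel) 0 1) (p_idem ρ ψ 0 1)
  have zT : Commute T (ρ z) :=
    ((commute_map_p ρ ψ 1 0 z (zlong 1 (by simp))).symm).mul_left
      ((commute_map_p ρ ψ 0 1 z (zlong 0 (by simp))).symm)
  have hX3 : ρ z * (ρ z * ρ z) = 1 := by rw [← map_mul, ← map_mul, z3, map_one]
  have d3 : (ζ * ζ) * ((ζ * ζ) * (ζ * ζ)) = 1 := by linear_combination (ζ * (ζ * ζ) + 1) * ζ3
  set δ := ζ * ζ with hδ
  set M := T * eigThree δ (ρ z) with hM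
  have M_idem : IsIdempotentElem M :=
    T_idem.mul_of_commute (eigThree_commute zT) (eigThree_idem hX3 d3)
  set E := pr ρ ψ 0 0 - e6 ρ ψ 0 with hE
  have E_idem : IsIdempotentElem E := by
    rw [IsIdempotentElem, hE, sub_mul, mul_sub, mul_sub, (pr_idem ρ ψ 0 0).eq,
      (pr_mul_e6 ρ ψ 0).1, (pr_mul_e6 ρ ψ 0).2, (e6_idem ρ ψ 0).eq, sub_self, sub_zero]
  have E_rnk : rnk E = q - 1 := by
    have h : (rnk E : ℂ) = ((q - 1 : ℕ) : ℂ) := by
      rw [← rnk_trace E_idem.eq, hE, map_sub, rnk_trace (pr_idem ρ ψ 0 0).eq,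
        rnk_trace (e6_idem ρ ψ 0).eq, ← ee, hee, ← hr0def, Nat.cast_add]
      ring
    exact_mod_cast h
  have E_sum : E = ∑ a ∈ (Finset.univ : Finset F).erase 0, e6 ρ ψ a := by
    rw [hE, ← sumE, Finset.sum_erase_eq_sub (Finset.mem_univ _)]
  have key : ((q : ℂ) * q) • (pr ρ ψ 0 0 * M * E) = σ • E := by
    rw [E_sum, Finset.mul_sum, Finset.smul_sum, Finset.smul_sum]
    refine Finset.sum_congr rfl fun a ha => ?_
    have ha' := (Finset.mem_erase.1 ha).1
    rw [hM, mul_assoc, mul_assoc T, eigThree_fix (zeig a ha') (show δ * ζ = 1 by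
      rw [hδ, mul_assoc, ζ3]), ← mul_assoc, hT, hqdef, compress_scalar hc hψ ha' (hκa a ha'),
      ← hqdef, ← hσdef]
  have hle : rnk E ≤ rnk M := by
    have hEeq : E = (σ⁻¹ * ((q : ℂ) * q)) • (pr ρ ψ 0 0 * M * E) := by
      rw [← smul_smul, key, smul_smul, inv_mul_cancel₀ hσ, one_smul]
    refine le_trans (Submodule.finrank_mono ?_)
      (Submodule.finrank_map_le ((σ⁻¹ * ((q : ℂ) * q)) • pr ρ ψ 0 0) (LinearMap.range M))
    rintro _ ⟨v, rfl⟩
    refine ⟨M (E v), LinearMap.mem_range_self _ _, ?_⟩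
    conv_rhs => rw [hEeq]
    simp only [LinearMap.smul_apply, Module.End.mul_apply]
  -- counting
  obtain ⟨e1, he1, w1⟩ := ww_conj (F := F) 10
  obtain ⟨e0, he0, w0⟩ := ww_conj (F := F) 11
  obtain ⟨e2, he2, w2⟩ := ww_conj (F := F) 9
  rw [show (10 : Fin 12).rev = 1 from rfl] at w1
  rw [show (11 : Fin 12).rev = 0 from rfl] at w0
  rw [show (9 : Fin 12).rev = 2 from rfl] at w2
  set u : G2 F := ww⁻¹ * z * ww with hu
  have ucomm : ∀ (i j : Fin 12) (e : F), (∀ t, ww * x i t * ww⁻¹ = x j (e * t)) →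
      (∀ t, Commute z (x j t)) → ∀ t, Commute u (x i t) := by
    intro i j e hw hzj t
    have hx : x i t = ww⁻¹ * x j (e * t) * ww := by rw [← hw]; group
    rw [hu, hx, Commute, SemiconjBy]
    calc ww⁻¹ * z * ww * (ww⁻¹ * x j (e * t) * ww) = ww⁻¹ * (z * x j (e * t)) * ww := by group
      _ = ww⁻¹ * (x j (e * t) * z) * ww := by rw [(hzj _).eq]
      _ = _ := by group
  have unine : ∀ t, u * x 9 t * u⁻¹ = x 9 ((wgt (ω ^ 2) 1 2 : F) * t) := fun t => by
    have e' : u * x 9 t * u⁻¹ = ww⁻¹ * (z * (ww * x 9 t * ww⁻¹) * z⁻¹) * ww := by rw [hu]; group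
    rw [e', w2, hz, tor_conj, ← mul_left_comm, ← w2]
    group
  have hk : (wgt (ω ^ 2) 1 2 : F) ≠ 1 := by
    intro h
    have h' : (ω ^ 2)⁻¹ = 1 := by
      refine Units.ext ?_
      simpa [wgt, expA, expB] using h
    rw [inv_eq_one] at h'
    have := orderOf_dvd_of_pow_eq_one h'
    rw [hω] at this
    omega
  have u3 : u * (u * u) = 1 := by
    have e : u * (u * u) = ww⁻¹ * (z * (z * z)) * ww := by rw [hu]; group
    rw [e, z3, mul_one, inv_mul_cancel]
  have hL : SemiconjBy (ρ ww) (pr ρ ψ e0 0) T := by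
    have a := semiconj_p ρ ψ ww 11 0 e0 he0 w0 1
    have b := semiconj_p ρ ψ ww 10 1 e1 he1 w1 0
    rw [one_mul] at a
    rw [zero_mul] at b
    have h := a.mul_right b
    rwa [(pp_comm ρ ψ 0 1 (by decide +kernel) 1 0).eq] at h
  have hzu : SemiconjBy (ρ ww) (ρ u) (ρ z) := by
    rw [SemiconjBy, ← map_mul, ← map_mul]
    exact congrArg ρ (by rw [hu]; group)
  set w := w3 ρ ψ e0 0 0 with hw
  have hw_r : rnk w = 1 := (rnk_w3_top ρ ψ h3 he0 0 0).trans hm
  have uw : Commute (ρ u) w := by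
    refine ((commute_map_p ρ ψ 11 e0 u (ucomm 11 0 e0 w0 (zlong 0 (by simp)))).mul_right
      (commute_map_p ρ ψ 10 0 u (ucomm 10 1 e1 w1 (zlong 1 (by simp))))).mul_right ?_
    have h := semiconj_p ρ ψ u 9 9 _ (Units.ne_zero _) unine 0
    rwa [zero_mul] at h
  obtain ⟨ε, hε⟩ := exists_smul_of_rnk_le_one (w3_idem ρ ψ e0 0 0) hw_r.le (ρ u)
  rw [← hw, ← uw.eq, mul_assoc, show w * w = w from (w3_idem ρ ψ e0 0 0).eq] at hε
  have wne : w ≠ 0 := fun h0 => by
    rw [h0, rnk, LinearMap.range_zero, finrank_bot] at hw_r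
    omega
  have ε3 : ε * (ε * ε) = 1 := by
    refine smul_left_injective ℂ wne ?_
    have h := congrArg (fun X => X * w) (congrArg ρ u3)
    simp only [map_mul, map_one, one_mul, mul_assoc, hε, mul_smul_comm, smul_smul] at h
    simp only [one_smul]
    exact h
  have moved : ∀ (g : G2 F) (k : F), k ≠ 1 → k ≠ 0 →
      (∀ t, g * x 9 t * g⁻¹ = x 9 (k * t)) → Commute (ρ g) (pr ρ ψ e0 0) →
      LinearMap.trace ℂ V (pr ρ ψ e0 0 * ρ g) = LinearMap.trace ℂ V (w * ρ g) := by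
    intro g k hk1 hk0 hg hcom
    conv_lhs => rw [← mul_one (pr ρ ψ e0 0), ← sum_p ρ ψ hψ 9, Finset.mul_sum, Finset.sum_mul,
      map_sum]
    refine Finset.sum_eq_single (0 : F) (fun A _ hA => ?_) (by simp)
    set a := pr ρ ψ e0 0 * p ρ ψ 9 A with ha
    have hi : IsIdempotentElem a := w3_idem ρ ψ e0 0 A
    have hs : SemiconjBy (ρ g) (pr ρ ψ e0 0 * p ρ ψ 9 (A * k)) a :=
      SemiconjBy.mul_right hcom (semiconj_p ρ ψ g 9 9 k hk0 hg A)
    have horth : pr ρ ψ e0 0 * p ρ ψ 9 (A * k) * a = 0 := by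
      rw [ha, mul_assoc, ← mul_assoc (p ρ ψ 9 (A * k)), ← (pr_nine_comm ρ ψ e0 0 _).eq,
        mul_assoc, p_orth ρ ψ hψ 9 (fun e => hk1 (mul_left_cancel₀ hA (e.trans (mul_one A).symm))),
        mul_zero, mul_zero]
    calc LinearMap.trace ℂ V (a * ρ g) = LinearMap.trace ℂ V (a * (a * ρ g)) := by
          rw [← mul_assoc, hi.eq]
      _ = LinearMap.trace ℂ V (a * ρ g * a) := by rw [LinearMap.trace_mul_comm]
      _ = 0 := by
          rw [← hs.eq, mul_assoc, horth, mul_zero, map_zero]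
  have hpru : Commute (ρ u) (pr ρ ψ e0 0) :=
    (commute_map_p ρ ψ 11 e0 u (ucomm 11 0 e0 w0 (zlong 0 (by simp)))).mul_right
      (commute_map_p ρ ψ 10 0 u (ucomm 10 1 e1 w1 (zlong 1 (by simp))))
  have t1 : LinearMap.trace ℂ V (T * ρ z) = ε := by
    rw [← trace_of_semiconj ρ (hL.mul_right hzu), moved u _ hk (Units.ne_zero _) unine hpru,
      ← uw.eq, hε, map_smul, rnk_trace (w3_idem ρ ψ e0 0 0).eq, ← hw, hw_r, Nat.cast_one,
      smul_eq_mul, mul_one]
  have t2 : LinearMap.trace ℂ V (T * (ρ z * ρ z)) = ε * ε := by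
    have hk2 : (wgt (ω ^ 2) 1 2 : F) * (wgt (ω ^ 2) 1 2 : F) ≠ 1 := by
      intro h
      refine hk ?_
      have h3' : (wgt (ω ^ 2) 1 2 : F) * ((wgt (ω ^ 2) 1 2 : F) * (wgt (ω ^ 2) 1 2 : F)) = 1 := by
        rw [← Units.val_mul, ← Units.val_mul, Units.val_eq_one]
        simp [wgt, expA, expB, ← mul_inv, ← pow_add]
        rw [show (6 : ℕ) = 3 * 2 by rfl, pow_mul, hω3, one_pow]
      rwa [h, mul_one] at h3'
    have un2 : ∀ t, (u * u) * x 9 t * (u * u)⁻¹ =
        x 9 ((wgt (ω ^ 2) 1 2 : F) * (wgt (ω ^ 2) 1 2 : F) * t) := fun t => by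
      have e : (u * u) * x 9 t * (u * u)⁻¹ = u * (u * x 9 t * u⁻¹) * u⁻¹ := by group
      rw [e, unine, unine, mul_assoc]
    rw [← trace_of_semiconj ρ (hL.mul_right (hzu.mul_right hzu)), ← map_mul ρ,
      moved (u * u) _ hk2 (mul_ne_zero (Units.ne_zero _) (Units.ne_zero _)) un2
        (by rw [map_mul ρ]; exact hpru.mul_left hpru),
      map_mul ρ, ← mul_assoc, ← uw.eq, hε, smul_mul_assoc, ← uw.eq, hε, smul_smul, map_smul,
      rnk_trace (w3_idem ρ ψ e0 0 0).eq, ← hw, hw_r, Nat.cast_one, smul_eq_mul, mul_one]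
  have t0 : LinearMap.trace ℂ V T = (q : ℂ) := by
    rw [← trace_of_semiconj ρ hL, rnk_trace (pr_idem ρ ψ e0 0).eq, rnk_pr_top ρ ψ he0,
      dd_eq ρ ψ hψ h3, hm, mul_one]
  have tM : (3 : ℂ) * (rnk M : ℂ) = (q : ℂ) + δ * ε + (δ * ε) * (δ * ε) := by
    rw [← rnk_trace M_idem.eq, hM, eigThree, mul_smul_comm, map_smul, smul_eq_mul,
      ← mul_assoc, mul_inv_cancel₀ (by norm_num : (3 : ℂ) ≠ 0), one_mul, mul_add, mul_add, mul_one,
      mul_smul_comm, mul_smul_comm, map_add, map_add, map_smul, map_smul, t0, t1, t2, smul_eq_mul,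
      smul_eq_mul]
    ring
  have hcube : (δ * ε) * ((δ * ε) * (δ * ε)) = 1 := by
    linear_combination (δ * (δ * δ)) * ε3 + d3
  have hsmall : 3 * rnk M ≤ q + 2 := by
    have hfac : (δ * ε - 1) * ((δ * ε) * (δ * ε) + δ * ε + 1) = 0 := by
      linear_combination hcube
    rcases mul_eq_zero.1 hfac with h | h
    · rw [sub_eq_zero] at h
      rw [h] at tM
      have : ((3 * rnk M : ℕ) : ℂ) = ((q + 2 : ℕ) : ℂ) := by
        push_cast
        linear_combination tM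
      exact (Nat.cast_injective this).le
    · have : ((3 * rnk M + 1 : ℕ) : ℂ) = ((q : ℕ) : ℂ) := by
        push_cast
        linear_combination tM + h
      have := Nat.cast_injective this
      omega
  omega

end CfsgLib.GTwoDegree
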