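import Cfsg.Agent.GTwoDegree.Projectors

/-!
# The long root pair `3 a + b`, `3 a + 2 b`

All its non-trivial weights have the same multiplicity.
-/

set_option autoImplicit false
set_option linter.unusedSectionVars false

namespace CfsgLib.GTwoDegree

open Module CfsgLib.RepBounds Cfsg.Lie

/-- Pairs of roots with commuting root subgroups over every field. -/
def commPairs : List (Fin 12 × Fin 12) :=
  [(10, 11), (11, 10), (9, 10), (10, 9), (9, 11), (11, 9), (8, 10), (10, 8), (8, 11), (11, 8),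
    (6, 8), (8, 6), (6, 9), (9, 6), (6, 11), (11, 6), (7, 10), (10, 7), (7, 11), (11, 7), (0, 1),
    (1, 0), (1, 6), (6, 1)]

theorem comm_facts : ∀ r ∈ commPairs, r.2 ≠ r.1 ∧ rt r.2 ≠ (rt r.1).rev ∧
    chevG2.commTerms r.1 r.2 = [] := by decide +kernel

/-- Terms in Chevalley's formula which are single. -/
def onePairs : List (Fin 12 × Fin 12 × Fin 12 × ℤ) :=
  [(6, 10, 11, 1), (8, 9, 11, 3), (7, 9, 10, 3), (6, 0, 1, -1)]

theorem one_facts : ∀ r ∈ onePairs, r.2.1 ≠ r.1 ∧ rt r.2.1 ≠ (rt r.1).rev ∧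
    chevG2.commTerms r.1 r.2.1 = [(r.2.2.1.1, r.2.2.2, 1, 1)] := by decide +kernel

variable {F : Type*} [Field F]

theorem comm_xx (i j : Fin 12) (h : (i, j) ∈ commPairs) (s t : F) : Commute (x i s) (x j t) :=
  commute_x i j ⟨(comm_facts _ h).1, (comm_facts _ h).2.1⟩ (comm_facts _ h).2.2 s t

theorem conj_xx (i j k : Fin 12) (c : ℤ) (h : (i, j, k, c) ∈ onePairs) (t u : F) :
    x i t * x j u * (x i t)⁻¹ = x j u * x k ((c : F) * t * u) :=
  conj_one i j k c ⟨(one_facts _ h).1, (one_facts _ h).2.1⟩ (one_facts _ h).2.2 t u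

theorem sign_facts : ∀ i : Fin 12, (eA i = 1 ∨ eA i = -1) ∧ (eB i = 1 ∨ eB i = -1) := by
  decide +kernel

theorem eA_ne_zero (i : Fin 12) : ((eA i : ℤ) : F) ≠ 0 := by
  rcases (sign_facts i).1 with h | h <;> simp [h]

theorem eB_ne_zero (i : Fin 12) : ((eB i : ℤ) : F) ≠ 0 := by
  rcases (sign_facts i).2 with h | h <;> simp [h]

variable [Fintype F] {V : Type*} [AddCommGroup V] [Module ℂ V] [FiniteDimensional ℂ V]
  (ρ : Representation ℂ (G2 F) V) (ψ : AddChar F ℂ)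

theorem pp_comm (i j : Fin 12) (h : (i, j) ∈ commPairs) (A B : F) :
    Commute (p ρ ψ i A) (p ρ ψ j B) := commute_p_p ρ ψ i j (fun s t => comm_xx i j h s t) A B

theorem map_comm (i j : Fin 12) (h : (i, j) ∈ commPairs) (s B : F) :
    Commute (ρ (x i s)) (p ρ ψ j B) := commute_map_p ρ ψ j B _ fun t => comm_xx i j h s t

theorem self_comm (i : Fin 12) (s B : F) : Commute (ρ (x i s)) (p ρ ψ i B) :=
  commute_map_p ρ ψ i B _ fun t => by
    rw [Commute, SemiconjBy, ← AddChar.map_add_eq_mul, ← AddChar.map_add_eq_mul, add_comm]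

theorem semiconj_tor (l m : Fˣ) (i : Fin 12) (A : F) :
    SemiconjBy (ρ (tor l m)) (p ρ ψ i (A * (wgt l m i : F))) (p ρ ψ i A) :=
  semiconj_p ρ ψ _ i i _ (Units.ne_zero _) (tor_conj l m i) A

theorem semiconj_nA (i : Fin 12) (A : F) :
    SemiconjBy (ρ nA) (p ρ ψ i (A * (eA i : F))) (p ρ ψ (sA i) A) :=
  semiconj_p ρ ψ _ i (sA i) _ (eA_ne_zero i) (nA_conj i) A

theorem semiconj_nB (i : Fin 12) (A : F) :
    SemiconjBy (ρ nB) (p ρ ψ i (A * (eB i : F))) (p ρ ψ (sB i) A) :=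
  semiconj_p ρ ψ _ i (sB i) _ (eB_ne_zero i) (nB_conj i) A

/-- The weights of the pair. -/
noncomputable def pr (L B : F) : End ℂ V := p ρ ψ 11 L * p ρ ψ 10 B

theorem pr_idem (L B : F) : IsIdempotentElem (pr ρ ψ L B) :=
  (p_idem ρ ψ 11 L).mul_of_commute (pp_comm ρ ψ 11 10 (by decide +kernel) L B) (p_idem ρ ψ 10 B)

/-- The multiplicity of a non-trivial weight. -/
noncomputable def dd : ℕ := rnk (pr ρ ψ 1 0)

theorem rnk_shear_six (L B t : F) : rnk (pr ρ ψ L (B + L * t)) = rnk (pr ρ ψ L B) := by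
  have c := fun A => pp_comm ρ ψ 11 10 (by decide +kernel) L A
  refine rnk_semiconj ρ (g := x 6 t) ?_ (pr_idem ρ ψ _ _) (pr_idem ρ ψ _ _)
  rw [pr, pr, (c _).eq, (c _).eq]
  refine semiconj_shear ρ ψ _ 10 (fun u => x 11 (((1 : ℤ) : F) * t * u)) _ _
    (fun u => conj_xx 6 10 11 1 (by decide +kernel) t u) (fun u => ?_)
    (map_comm ρ ψ 6 11 (by decide +kernel) t L) B
  rw [map_mul_p, Int.cast_one, one_mul, mul_assoc]

theorem rnk_pr_top {L : F} (hL : L ≠ 0) (B : F) : rnk (pr ρ ψ L B) = dd ρ ψ := by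
  have h1 : rnk (pr ρ ψ L B) = rnk (pr ρ ψ L 0) := by
    rw [← rnk_shear_six ρ ψ L 0 (B / L), zero_add, mul_div_cancel₀ _ hL]
  rw [h1, dd]
  refine rnk_semiconj ρ (g := tor 1 (Units.mk0 L hL)) ?_ (pr_idem ρ ψ _ _) (pr_idem ρ ψ _ _)
  have e1 : ((1 : F) * (wgt 1 (Units.mk0 L hL) 11 : F)) = L := by simp [wgt, expA, expB]
  have e2 : ((0 : F) * (wgt 1 (Units.mk0 L hL) 10 : F)) = 0 := zero_mul _
  have s1 := semiconj_tor ρ ψ 1 (Units.mk0 L hL) 11 1
  have s2 := semiconj_tor ρ ψ 1 (Units.mk0 L hL) 10 0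
  rw [e1] at s1
  rw [e2] at s2
  exact s1.mul_right s2

theorem rnk_pr {L B : F} (h : L ≠ 0 ∨ B ≠ 0) : rnk (pr ρ ψ L B) = dd ρ ψ := by
  by_cases hL : L = 0
  · have hB : B ≠ 0 := h.resolve_left fun h => h hL
    have s1 := semiconj_nB ρ ψ 10 B
    have s2 := semiconj_nB ρ ψ 11 L
    rw [show sB 10 = 11 from rfl] at s1
    rw [show sB 11 = 10 from rfl, hL] at s2
    have hs := s2.mul_right s1
    rw [zero_mul] at hs
    have hc : p ρ ψ 10 0 * p ρ ψ 11 B = pr ρ ψ B 0 :=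
      (pp_comm ρ ψ 10 11 (by decide +kernel) 0 B).eq
    rw [hc] at hs
    rw [hL, ← rnk_pr_top ρ ψ hB 0]
    have e : rnk (pr ρ ψ 0 (B * (eB 10 : F))) = rnk (pr ρ ψ B 0) :=
      rnk_semiconj ρ hs (pr_idem ρ ψ _ _) (pr_idem ρ ψ _ _)
    have e10 : ((eB 10 : ℤ) : F) = 1 := by simp [eB]
    rwa [e10, mul_one] at e
  · exact rnk_pr_top ρ ψ hL B

/-- The multiplicity of the trivial weight. -/
noncomputable def ee : ℕ := rnk (pr ρ ψ (0 : F) 0)

variable (hψ : ψ ≠ 0)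
include hψ

theorem finrank_eq :
    (finrank ℂ V : ℤ) = ee ρ ψ + ((Fintype.card F : ℤ) ^ 2 - 1) * dd ρ ψ := by
  classical
  have h1 : ∑ L : F, rnk (p ρ ψ 11 L) = finrank ℂ V := by
    have h := sum_rnk ρ ψ hψ 11 (e := (1 : End ℂ V)) IsIdempotentElem.one fun A => Commute.one_left _
    simp only [one_mul] at h
    rw [h, rnk, show LinearMap.range (1 : End ℂ V) = ⊤ from LinearMap.range_id, finrank_top]
  have h2 : ∀ L : F, ∑ B : F, rnk (pr ρ ψ L B) = rnk (p ρ ψ 11 L) := fun L =>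
    sum_rnk ρ ψ hψ 10 (p_idem ρ ψ 11 L) fun B => pp_comm ρ ψ 11 10 (by decide +kernel) L B
  rw [← h1, ← Finset.sum_congr rfl fun L _ => h2 L, ← Fintype.sum_prod_type',
    ← Finset.add_sum_erase _ _ (Finset.mem_univ ((0 : F), (0 : F))),
    Finset.sum_congr rfl (g := fun _ => dd ρ ψ) fun q hq => ?_, Finset.sum_const,
    Finset.card_erase_of_mem (Finset.mem_univ _), Finset.card_univ, Fintype.card_prod, smul_eq_mul]
  · have : 1 ≤ Fintype.card F * Fintype.card F := Nat.mul_pos Fintype.card_pos Fintype.card_pos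
    push_cast [Nat.cast_sub this, ee]
    ring
  · refine rnk_pr ρ ψ ?_
    have hne := (Finset.mem_erase.1 hq).1
    by_contra hc
    push Not at hc
    exact hne (Prod.ext hc.1 hc.2)

theorem dd_pos (hinj : ∀ g, ρ g = 1 → g = 1) : 0 < dd ρ ψ := by
  refine Nat.pos_of_ne_zero fun h0 => ?_
  have hz : ∀ L : F, L ≠ 0 → p ρ ψ 11 L = 0 := fun L hL => by
    refine eq_zero_of_rnk ?_
    rw [← sum_rnk ρ ψ hψ 10 (p_idem ρ ψ 11 L) fun B => pp_comm ρ ψ 11 10 (by decide +kernel) L B]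
    exact Finset.sum_eq_zero fun B _ => (rnk_pr_top ρ ψ hL B).trans h0
  have h1 : p ρ ψ 11 0 = 1 := by
    classical
    rw [← sum_p ρ ψ hψ 11, Finset.sum_eq_single 0 (fun L _ hL => hz L hL) (by simp)]
  have h2 := map_mul_p ρ ψ 11 0 (1 : F)
  rw [h1, mul_one, zero_mul, AddChar.map_zero_eq_one, one_smul] at h2
  exact one_ne_zero (x_eq_one 11 (hinj _ h2))

end CfsgLib.GTwoDegree
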