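import Cfsg.Agent.GTwoDegree.Elements
import Cfsg.Agent.RepBounds.Proj
import Cfsg.Agent.DFourDegree.Weights

/-!
# Weight projectors of root subgroups

`p ρ ψ i A` projects on the vectors on which `x i t` acts by `ψ (A t)`.
-/

set_option autoImplicit false
set_option linter.unusedSectionVars false

namespace CfsgLib.GTwoDegree

open Module CfsgLib.RepBounds

section Idempotents

variable {G V : Type*} [Group G] [AddCommGroup V] [Module ℂ V] [FiniteDimensional ℂ V]
  (ρ : Representation ℂ G V)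

theorem rnk_of_trace {e f : End ℂ V} (he : IsIdempotentElem e) (hf : IsIdempotentElem f)
    (h : LinearMap.trace ℂ V e = LinearMap.trace ℂ V f) : rnk e = rnk f := by
  rw [rnk_trace he.eq, rnk_trace hf.eq] at h
  exact_mod_cast h

theorem trace_of_semiconj {g : G} {X Y : End ℂ V} (h : SemiconjBy (ρ g) X Y) :
    LinearMap.trace ℂ V X = LinearMap.trace ℂ V Y := by
  have e : X = ρ g⁻¹ * (Y * ρ g) := by
    rw [← h.eq, ← mul_assoc, ← map_mul, inv_mul_cancel, map_one, one_mul]
  rw [e, LinearMap.trace_mul_comm, mul_assoc, ← map_mul, mul_inv_cancel, map_one, mul_one]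

theorem rnk_semiconj {g : G} {e f : End ℂ V} (h : SemiconjBy (ρ g) e f) (he : IsIdempotentElem e)
    (hf : IsIdempotentElem f) : rnk e = rnk f :=
  rnk_of_trace he hf (trace_of_semiconj ρ h)

theorem exists_fix {e : End ℂ V} (he : IsIdempotentElem e) (h : rnk e ≠ 0) :
    ∃ v, v ≠ 0 ∧ e v = v := by
  by_contra hc
  push Not at hc
  refine h ?_
  rw [rnk, Submodule.finrank_eq_zero, LinearMap.range_eq_bot]
  refine LinearMap.ext fun x => ?_
  by_contra hx
  refine hc (e x) hx ?_
  rw [← Module.End.mul_apply, he.eq]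

theorem rnk_ne_zero {e : End ℂ V} {v : V} (hv : v ≠ 0) (h : e v = v) : rnk e ≠ 0 := by
  intro h0
  rw [rnk, Submodule.finrank_eq_zero, LinearMap.range_eq_bot] at h0
  rw [h0, LinearMap.zero_apply] at h
  exact hv h.symm

theorem eq_zero_of_rnk {e : End ℂ V} (h : rnk e = 0) : e = 0 := by
  rwa [rnk, Submodule.finrank_eq_zero, LinearMap.range_eq_bot] at h

omit [FiniteDimensional ℂ V] in
theorem fix_of_mul {e f : End ℂ V} (he : IsIdempotentElem e) {v : V} (h : (e * f) v = v) :
    e v = v := by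
  conv_lhs => rw [← h, ← Module.End.mul_apply, ← mul_assoc, he.eq]
  exact h

omit [FiniteDimensional ℂ V] in
theorem fix_of_mul' {e f : End ℂ V} (hf : IsIdempotentElem f) (hc : Commute e f) {v : V}
    (h : (e * f) v = v) : f v = v :=
  fix_of_mul hf (hc.eq ▸ h)

/-- An idempotent of rank one scales everything to its range. -/
theorem exists_smul_of_rnk_le_one {e : End ℂ V} (he : IsIdempotentElem e) (h : rnk e ≤ 1)
    (X : End ℂ V) : ∃ c : ℂ, e * X * e = c • e := by
  by_cases h0 : e = 0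
  · exact ⟨0, by simp [h0]⟩
  obtain ⟨v, hv0, hv⟩ := exists_fix he fun h' => h0 (eq_zero_of_rnk h')
  have hspan : LinearMap.range e = Submodule.span ℂ {v} := by
    refine (Submodule.eq_of_le_of_finrank_le ?_ ?_).symm
    · rw [Submodule.span_singleton_le_iff_mem]
      exact ⟨v, hv⟩
    · rw [finrank_span_singleton hv0]
      exact h
  have hs : ∀ x, ∃ c : ℂ, e x = c • v := fun x => by
    have h1 : e x ∈ LinearMap.range e := LinearMap.mem_range_self e x
    rw [hspan, Submodule.mem_span_singleton] at h1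
    obtain ⟨c, hc⟩ := h1
    exact ⟨c, hc.symm⟩
  obtain ⟨c, hc⟩ := hs (X v)
  refine ⟨c, LinearMap.ext fun x => ?_⟩
  obtain ⟨d, hd⟩ := hs x
  rw [Module.End.mul_apply, Module.End.mul_apply, LinearMap.smul_apply, hd, map_smul, map_smul, hc,
    smul_comm]

end Idempotents

section Roots

variable {F : Type*} [Field F] [Fintype F] {V : Type*} [AddCommGroup V] [Module ℂ V]
  [FiniteDimensional ℂ V] (ρ : Representation ℂ (G2 F) V) (ψ : AddChar F ℂ)

/-- The character of `F` with parameter `A`. -/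
noncomputable def chr (A : F) : AddChar F ℂ := ψ.compAddMonoidHom (AddMonoidHom.mulLeft A)

omit [Fintype F] in
theorem chr_apply (A t : F) : chr ψ A t = ψ (A * t) := rfl

theorem chr_bijective (hψ : ψ ≠ 0) : Function.Bijective (chr ψ) :=
  ⟨DFourDegree.mulShift_injective hψ, DFourDegree.mulShift_surjective hψ⟩

/-- The family of a root. -/
noncomputable abbrev fam (i : Fin 12) : AddChar F (End ℂ V) := resChar ρ (x i)

/-- The weight projector of a root. -/
noncomputable def p (i : Fin 12) (A : F) : End ℂ V := proj (fam ρ i) (chr ψ A)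

theorem p_idem (i : Fin 12) (A : F) : IsIdempotentElem (p ρ ψ i A) := proj_mul_proj _ _

theorem map_mul_p (i : Fin 12) (A t : F) :
    ρ (x i t) * p ρ ψ i A = ψ (A * t) • p ρ ψ i A :=
  map_mul_proj (fam ρ i) (chr ψ A) t

theorem p_mul_map (i : Fin 12) (A t : F) :
    p ρ ψ i A * ρ (x i t) = ψ (A * t) • p ρ ψ i A := by
  rw [← map_mul_p ρ ψ i A t]
  exact (proj_comm _ _ (ρ (x i t)) fun a => (DFourDegree.commute_map (fam ρ i) t a).eq).symm

theorem p_fix_iff (i : Fin 12) (A : F) (v : V) :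
    p ρ ψ i A v = v ↔ ∀ t, ρ (x i t) v = ψ (A * t) • v := by
  constructor
  · intro h t
    rw [← h, ← Module.End.mul_apply, map_mul_p, LinearMap.smul_apply]
  · intro h
    obtain ⟨w, hw⟩ := (DFourDegree.mem_range_proj (fam ρ i) (chr ψ A) v).2 h
    rw [← hw]
    exact LinearMap.congr_fun (p_idem ρ ψ i A) w

theorem p_def (i : Fin 12) (A : F) :
    p ρ ψ i A = (Fintype.card F : ℂ)⁻¹ • ∑ t : F, ψ (-(A * t)) • ρ (x i t) := by
  simp only [p, proj, chr_apply, mul_neg, fam, resChar_apply]

theorem sum_p (hψ : ψ ≠ 0) (i : Fin 12) : ∑ A : F, p ρ ψ i A = 1 :=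
  ((chr_bijective ψ hψ).sum_comp fun χ => proj (fam ρ i) χ).trans (sum_proj _)

theorem p_orth (hψ : ψ ≠ 0) (i : Fin 12) {A B : F} (h : A ≠ B) : p ρ ψ i A * p ρ ψ i B = 0 :=
  proj_orth _ fun e => h ((chr_bijective ψ hψ).1 e)

/-- An operator commuting with a root subgroup commutes with its projectors. -/
theorem commute_p (i : Fin 12) (A : F) (X : End ℂ V) (h : ∀ t, Commute X (ρ (x i t))) :
    Commute X (p ρ ψ i A) := proj_comm _ _ X fun t => (h t).eq

/-- An element commuting with a root subgroup commutes with its projectors. -/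
theorem commute_map_p (i : Fin 12) (A : F) (g : G2 F) (h : ∀ t, Commute g (x i t)) :
    Commute (ρ g) (p ρ ψ i A) := commute_p ρ ψ i A _ fun t => (h t).map ρ

theorem commute_p_p (i j : Fin 12) (h : ∀ s t : F, Commute (x i s) (x j t)) (A B : F) :
    Commute (p ρ ψ i A) (p ρ ψ j B) :=
  commute_p ρ ψ j B _ fun t => (commute_map_p ρ ψ i A _ fun s => (h s t).symm).symm

/-- An element carrying a root subgroup to another carries the projectors. -/
theorem semiconj_p (g : G2 F) (i j : Fin 12) (c : F) (hc : c ≠ 0)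
    (h : ∀ t, g * x i t * g⁻¹ = x j (c * t)) (A : F) :
    SemiconjBy (ρ g) (p ρ ψ i (A * c)) (p ρ ψ j A) := by
  rw [SemiconjBy, p_def, p_def, mul_smul_comm, smul_mul_assoc, Finset.mul_sum, Finset.sum_mul]
  congr 1
  refine Fintype.sum_equiv (Equiv.mulLeft₀ c hc) _ _ fun t => ?_
  rw [Equiv.mulLeft₀_apply, mul_smul_comm, smul_mul_assoc, ← map_mul, ← map_mul, ← h,
    inv_mul_cancel_right, mul_assoc]

/-- An element shearing a root subgroup by elements which are scalars on `e`. -/
theorem semiconj_shear (g : G2 F) (i : Fin 12) (y : F → G2 F) (K : F) (e : End ℂ V)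
    (h : ∀ t, g * x i t * g⁻¹ = x i t * y t) (he : ∀ t, ρ (y t) * e = ψ (K * t) • e)
    (hge : Commute (ρ g) e) (A : F) :
    SemiconjBy (ρ g) (p ρ ψ i (A + K) * e) (p ρ ψ i A * e) := by
  have key : ∀ t, ρ g * ρ (x i t) * e = ψ (K * t) • (ρ (x i t) * e * ρ g) := fun t => by
    have e1 : g * x i t = x i t * y t * g := by rw [← h, inv_mul_cancel_right]
    rw [← map_mul, e1, map_mul, map_mul, mul_assoc, hge.eq, mul_assoc (ρ (x i t)),
      ← mul_assoc (ρ (y t)), he, smul_mul_assoc, mul_smul_comm, mul_assoc]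
  rw [SemiconjBy, p_def, p_def]
  simp only [smul_mul_assoc, Finset.sum_mul, mul_smul_comm, Finset.mul_sum, ← mul_assoc, key,
    smul_smul, ← AddChar.map_add_eq_mul]
  congr 1
  refine Finset.sum_congr rfl fun t _ => ?_
  rw [show -((A + K) * t) + K * t = -(A * t) by ring]

/-- Splitting an idempotent by the weights of a root. -/
theorem sum_rnk (hψ : ψ ≠ 0) (i : Fin 12) {e : End ℂ V} (he : IsIdempotentElem e)
    (hc : ∀ A, Commute e (p ρ ψ i A)) : ∑ A : F, rnk (e * p ρ ψ i A) = rnk e := by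
  apply Nat.cast_injective (R := ℂ)
  rw [Nat.cast_sum, ← rnk_trace he.eq]
  calc ∑ A : F, (rnk (e * p ρ ψ i A) : ℂ) = ∑ A : F, LinearMap.trace ℂ V (e * p ρ ψ i A) :=
        Finset.sum_congr rfl fun A _ => (rnk_trace (he.mul_of_commute (hc A) (p_idem ρ ψ i A)).eq).symm
    _ = LinearMap.trace ℂ V e := by rw [← map_sum, ← Finset.mul_sum, sum_p ρ ψ hψ, mul_one]

end Roots

end CfsgLib.GTwoDegree
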